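import Groth.Agent.L11.NumOrth.Restrict
import Groth.Prelude.Def_PicF2

/-!
# Restriction to the zero scheme
-/

set_option autoImplicit false
set_option backward.isDefEq.respectTransparency false
set_option linter.style.haveILetI false
set_option linter.unusedSectionVars false

universe u

open CategoryTheory CategoryTheory.Limits AlgebraicGeometry TopologicalSpace

noncomputable section

namespace Groth.L11.NumOrth

open Groth.L22.Inter Groth.L22.Nef Groth.L16

variable (k : Type u) [Field k] [IsAlgClosed k] {X : Scheme.{u}} [X.Over (Spec (CommRingCat.of k))]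
  [IsProper (X ↘ Spec (CommRingCat.of k))]

/-- A module numerically trivial on the zero scheme is numerically trivial. -/
theorem NT_of_zeroScheme {H : X.Modules} (hH : CohB1.IsAmple H) (φ : Coh.structureModule X ⟶ H)
    (hdim : ∀ Z ∈ irreducibleComponents (X : Type u),
      ∀ W ∈ irreducibleComponents ↥(Z ∩ Set.range (PicF2.zeroScheme H φ).subschemeι.base), 2 ≤ topologicalKrullDim ↥W)
    {L : X.Modules} (hL : PicF.IsInvertible L)
    (hnum : @Pic13.IsNumEquivZero k _ (PicF2.zeroScheme H φ).subscheme
      ⟨(PicF2.zeroScheme H φ).subschemeι ≫ (X ↘ Spec (CommRingCat.of k))⟩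
      ((Scheme.Modules.pullback (PicF2.zeroScheme H φ).subschemeι).obj L)) :
    NT k L := by
  haveI := Groth.L21.RR.isNoetherian_of_proper (X := X) k
  let j := (PicF2.zeroScheme H φ).subschemeι
  let Y := (PicF2.zeroScheme H φ).subscheme
  letI : Y.Over (Spec (CommRingCat.of k)) := ⟨j ≫ (X ↘ Spec (CommRingCat.of k))⟩
  haveI : IsProper (Y ↘ Spec (CommRingCat.of k)) :=
    inferInstanceAs (IsProper (j ≫ (X ↘ Spec (CommRingCat.of k))))
  haveI := Groth.L21.RR.isNoetherian_of_proper (X := Y) k
  refine numZero_of_restrict k hH φ hdim hL fun y hy hyd => ?_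
  obtain ⟨y', rfl⟩ : y ∈ Set.range j := by
    have h1 : Set.range j = (CohB1.genLocus H φ : Set X)ᶜ := by
      rw [← Groth.L22.ZeroScheme.support_zeroScheme hH.1 φ]
      exact Scheme.IdealSheafData.range_subschemeι _
    rw [h1]; exact hy
  rw [dim_closure_map j.isClosedEmbedding] at hyd
  have hLY := Groth.L18.Ample.isInvertible_pullback j hL
  have h0 := (numZero_iff k hLY).1 hnum y' hyd
  haveI := isIntegral_pt y'
  let e := (pt y').subschemeι
  letI : (pt y').subscheme.Over (Spec (CommRingCat.of k)) := ⟨e ≫ (Y ↘ Spec (CommRingCat.of k))⟩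
  haveI : IsProper ((pt y').subscheme ↘ Spec (CommRingCat.of k)) :=
    inferInstanceAs (IsProper (e ≫ (Y ↘ Spec (CommRingCat.of k))))
  have hdc : topologicalKrullDim (pt y').subscheme = (1 : ℕ) := by
    rw [← dim_closure_image e, genericPoint_pt, hyd]
  have h4 := altT_push_eq k e rfl hdc (L := fun _ : Fin 1 => (Scheme.Modules.pullback j).obj L) fun _ => hLY
  have h5 := altT_push_eq k (e ≫ j) (Category.assoc _ _ _) hdc (L := fun _ : Fin 1 => L) fun _ => hL
  rw [genericPoint_pt, h0] at h4
  rw [Scheme.Hom.comp_apply, genericPoint_pt] at h5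
  rw [← h5, ← h4]
  exact altT_congr k (fun _ => ⟨((Scheme.Modules.pullbackComp e j).app L).symm⟩) _

end Groth.L11.NumOrth
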