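import Groth.Agent.L11.NumOrth.Chi
import Groth.Agent.L22.Inter.PullNum
import Groth.Agent.L22.Nef.Proper
import Groth.Agent.L21.RR.BaseChange

/-!
# Numerically trivial twists do not change Euler characteristics on proper schemes
-/

set_option autoImplicit false
set_option backward.isDefEq.respectTransparency false
set_option linter.style.haveILetI false
set_option linter.unusedSectionVars false

universe u

open CategoryTheory CategoryTheory.Limits AlgebraicGeometry TopologicalSpace

noncomputable section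

namespace Groth.L11.NumOrth

open Groth.L16 Groth.L22.Nef Groth.L22.Inter Groth.L03.Euler
open Groth.L00.Tensor (tensorMap tensorIso tensorAssoc tensorComm tensorUnitRight tensorUnitLeft)

attribute [local irreducible] Curv2.euler

variable (k : Type u) [Field k]

/-- The Euler characteristic of a push forward of an acyclic module after an invertible twist. -/
theorem euler_push_tensor {X Y : Scheme.{u}} [X.Over (Spec (CommRingCat.of k))] [Y.Over (Spec (CommRingCat.of k))]
    [IsProper (X ↘ Spec (CommRingCat.of k))] [IsProper (Y ↘ Spec (CommRingCat.of k))] [Y.IsSeparated]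
    (f : X ⟶ Y) [QuasiCompact f] [QuasiSeparated f] [HasInjectiveResolutions X.Modules]
    (hf : f ≫ (Y ↘ Spec (CommRingCat.of k)) = X ↘ Spec (CommRingCat.of k))
    {L : Y.Modules} (hL : PicF.IsInvertible L) (M : X.Modules) [Coh.IsQCoh M]
    (h : ∀ q : ℕ, IsZero ((Coh.Rpush f (q + 1)).obj M)) :
    Curv2.euler k Y (CohB1.tensorMod ((Coh.push f).obj M) L) =
      Curv2.euler k X (CohB1.tensorMod M ((Scheme.Modules.pullback f).obj L)) := by
  have hE : FlatMod.IsFinLocFree L := Groth.L16.Existence.isFinLocFree_of_isInvertible hL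
  haveI := Groth.L17.ProjFormula.isIso_θ f L M hE
  haveI : Coh.IsQCoh ((Scheme.Modules.pullback f).obj L) :=
    Groth.L29.DC.PCQCoh.isQCoh_of_isFinLocFree (Groth.L29.LocFree.pullback f hE)
  haveI := Groth.L00.Tensor.isQCoh_tensorMod ((Scheme.Modules.pullback f).obj L) M
  have hz : ∀ q : ℕ, IsZero ((Coh.Rpush f (q + 1)).obj (CohB1.tensorMod ((Scheme.Modules.pullback f).obj L) M)) :=
    fun q => by
      obtain ⟨i⟩ := Groth.L17.ProjFormula.nonempty_Rpush_iso f (A := M) (N := L) hE (q + 1)
      exact IsZero.of_iso ((Groth.L00.Tensor.tensorLeftF L).map_isZero (h q)) i.symm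
  rw [euler_iso (tensorComm ((Coh.push f).obj M) L), euler_iso (asIso (Groth.L17.ClosedPush.θ f M L))]
  refine (euler_push_of_acyclic k f hf (CohB1.tensorMod ((Scheme.Modules.pullback f).obj L) M) hz).trans ?_
  exact euler_iso (tensorComm _ M)

variable {X : Scheme.{u}} [X.Over (Spec (CommRingCat.of k))] [IsProper (X ↘ Spec (CommRingCat.of k))]

/-- Numerically trivial modules pull back to numerically trivial modules. -/
theorem NT.pullback {k : Type u} [Field k] {X : Scheme.{u}} [X.Over (Spec (CommRingCat.of k))]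
    [IsProper (X ↘ Spec (CommRingCat.of k))] {C : Scheme.{u}} [C.Over (Spec (CommRingCat.of k))]
    [IsProper (C ↘ Spec (CommRingCat.of k))] {L : X.Modules} (h : NT k L) (f : C ⟶ X)
    (hf : f ≫ (X ↘ Spec (CommRingCat.of k)) = C ↘ Spec (CommRingCat.of k)) :
    NT k ((Scheme.Modules.pullback f).obj L) := by
  obtain ⟨Q, hQ, ⟨e⟩⟩ := h.exists_inverse
  refine ⟨Groth.L18.Ample.isInvertible_pullback f h.1, ?_⟩
  rw [numZero_iff_isNef k (Groth.L18.Ample.isInvertible_pullback f h.1)
    (Groth.L18.Ample.isInvertible_pullback f hQ.1)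
    (Groth.L29.DC.PullTensor.pullTensor f L Q ≪≫ (Scheme.Modules.pullback f).mapIso e ≪≫
      Groth.L29.LocFree.pullbackUnitIso f)]
  exact ⟨IsNef.pullback' f hf h.nef, IsNef.pullback' f hf hQ.nef⟩

/-- Invariance on a projective scheme. -/
theorem euler_invariant_proj [IsAlgClosed k] {n : ℕ} (q : X ⟶ CohB1.ProjSpace n k) [IsClosedImmersion q]
    (hq : q ≫ CohB1.ProjSpace.toSpec n k = X ↘ Spec (CommRingCat.of k)) {L : X.Modules} (hL : NT k L)
    {M : X.Modules} (hM : Coh.IsCoh M) :
    Curv2.euler k X (CohB1.tensorMod M L) = Curv2.euler k X M := by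
  obtain ⟨D, hD, -⟩ := exists_nat_dim_le k k (X := X)
  exact (chi_reg_bdd k q hq (D + 1)).1 M hM
    (dim_succ_iff.2 (Topology.IsInducing.subtypeVal.topologicalKrullDim_le.trans hD)) L hL

/-- Invariance on a proper scheme over an algebraically closed field. -/
theorem euler_invariant_closed [IsAlgClosed k] {L : X.Modules} (hL : NT k L) {M : X.Modules} (hM : Coh.IsCoh M) :
    Curv2.euler k X (CohB1.tensorMod M L) = Curv2.euler k X M := by
  haveI := Groth.L21.RR.isNoetherian_of_proper (X := X) k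
  haveI : X.IsSeparated := ⟨by rw [← terminal.comp_from (X ↘ Spec (CommRingCat.of k))]; infer_instance⟩
  refine Devissage.devissage (fun M : X.Modules => Curv2.euler k X (CohB1.tensorMod M L) = Curv2.euler k X M)
    isClosed_univ ?_ ?_ ?_ ?_ hM (Set.subset_univ _)
  · rintro A B ⟨e⟩ hA
    rw [euler_iso (tensorIso e.symm (Iso.refl L)), hA, euler_iso e]
  · intro A hA
    rw [euler_of_isZero k hA, euler_of_isZero k (isZero_tensor hA L)]
  · intro S hS c₁ c₂ c₃ _
    have e₁ := euler_add (k := k) hS c₁ c₂ c₃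
    have e₂ : Curv2.euler k X (CohB1.tensorMod S.X₂ L) =
        Curv2.euler k X (CohB1.tensorMod S.X₁ L) + Curv2.euler k X (CohB1.tensorMod S.X₃ L) :=
      euler_add (k := k) (shortExact_tensor hL.1 hS) (isCoh_tensor hL.1 c₁) (isCoh_tensor hL.1 c₂)
        (isCoh_tensor hL.1 c₃)
    exact ⟨fun a b => by omega, fun a b => by omega, fun a b => by omega⟩
  intro y _
  obtain ⟨Z, z, hz, hZ, hgen, hrange⟩ := CohClosedPush.exists_integral y
  haveI := hz; haveI := hZ
  letI : Z.Over (Spec (CommRingCat.of k)) := ⟨z ≫ (X ↘ Spec (CommRingCat.of k))⟩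
  haveI : IsProper (Z ↘ Spec (CommRingCat.of k)) :=
    inferInstanceAs (IsProper (z ≫ (X ↘ Spec (CommRingCat.of k))))
  haveI := Groth.L21.RR.isNoetherian_of_proper (X := Z) k
  obtain ⟨N, W, π, j, hj, hjπ, hπ, -, U, hU, hUiso⟩ :=
    Groth.L16.Chow.exists_chow_dense (Z ↘ Spec (CommRingCat.of k))
  haveI := hj; haveI := hπ; haveI := hUiso
  letI : W.Over (Spec (CommRingCat.of k)) := ⟨π ≫ (Z ↘ Spec (CommRingCat.of k))⟩
  haveI : IsProper (W ↘ Spec (CommRingCat.of k)) :=
    inferInstanceAs (IsProper (π ≫ (Z ↘ Spec (CommRingCat.of k))))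
  haveI := Groth.L21.RR.isNoetherian_of_proper (X := W) k
  haveI := Groth.L17.PushQCoh.hasInjectiveResolutions W
  let q : W ⟶ CohB1.ProjSpace N k := j ≫ (Groth.L16.ProjSpace.isoOver N k).inv
  haveI : IsProper j := by
    haveI : IsProper (j ≫ CohB1.ProjSpaceOver.toBase N (Spec (CommRingCat.of k))) := by rw [hjπ]; infer_instance
    haveI : IsSeparated (CohB1.ProjSpaceOver.toBase N (Spec (CommRingCat.of k))) := by
      show IsSeparated (Limits.pullback.snd _ _)
      infer_instance
    exact IsProper.of_comp j (CohB1.ProjSpaceOver.toBase N (Spec (CommRingCat.of k)))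
  haveI : IsClosedImmersion j := IsClosedImmersion.of_isPreimmersion j j.isClosedMap.isClosed_range
  haveI : IsClosedImmersion q := inferInstanceAs (IsClosedImmersion (j ≫ _))
  have hq : q ≫ CohB1.ProjSpace.toSpec N k = W ↘ Spec (CommRingCat.of k) := by
    rw [← Groth.L16.ProjSpace.isoOver_hom_toBase (n := N) (R := k), Category.assoc, Iso.inv_hom_id_assoc]
    exact hjπ
  let A := (Scheme.Modules.pullback q).obj (Groth.L18.PUP.O1 N k)
  have hA : CohB1.IsAmple A :=
    Groth.L18.Ample.isAmple_pullback_of_isAffineHom q (Groth.L22.VeryAmple.isAmple_O1 N k)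
  obtain ⟨n₁, hn₁⟩ := exists_acyclic_twist (π ≫ z) (CohClosedPush.isCoh_structure (X := W)) hA
  let M₁ := CohB1.tensorMod (Coh.structureModule W) (CohB1.tensorPow A n₁)
  have hM₁ : PicF.IsInvertible M₁ :=
    Groth.L18.GenLoc.isInvertible_tensor (Groth.L18.Ample.isInvertible_structureModule W)
      (Groth.L18.Ample.isInvertible_tensorPow hA.1 _)
  have hM₁c : Coh.IsCoh M₁ := Groth.L16.ProperFinite.isCoh_of_isInvertible hM₁
  haveI : Coh.IsQCoh M₁ := hM₁c.1
  let G := (Coh.push (π ≫ z)).obj M₁
  let G' := (Coh.push z).obj ((Coh.push π).obj M₁)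
  have hπc : Coh.IsCoh ((Coh.push π).obj M₁) := Groth.L16.Exist.isCoh_pushforward π hM₁c
  have eG : G' ≅ G := (Scheme.Modules.pushforwardComp π z).app M₁
  refine ⟨G', CohClosedPush.isCoh_push z hπc, ?_, ?_, ?_⟩
  · have hNT : NT k ((Scheme.Modules.pullback (π ≫ z)).obj L) := hL.pullback (π ≫ z) (Category.assoc _ _ _)
    rw [euler_iso (tensorIso eG (Iso.refl L)), euler_iso eG,
      euler_push_tensor k (π ≫ z) (Category.assoc _ _ _) hL.1 M₁ (hn₁ n₁ le_rfl),
      euler_invariant_proj k q hq hNT hM₁c]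
    exact (euler_push_of_acyclic k (π ≫ z) (Category.assoc _ _ _) M₁ (hn₁ n₁ le_rfl)).symm
  · exact (CohClosedPush.support_push_subset z _).trans hrange.le
  · obtain ⟨V, e, hV, he⟩ := Groth.L16.ProperFinite.exists_frame_push π M₁ hM₁ U hU.nonempty
    rw [← hgen]
    exact Groth.L16.ProperFinite.len_push_of_frame z _ he
      (((genericPoint_spec Z).mem_open_set_iff V.2).2 (by obtain ⟨v, hv⟩ := hV; exact ⟨v, trivial, hv⟩))

/-- Invariance on a proper scheme over any field. -/
theorem euler_invariant {L : X.Modules} (hL : PicF.IsInvertible L) (h0 : Pic13.IsNumEquivZero k X L)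
    {M : X.Modules} (hM : Coh.IsCoh M) :
    Curv2.euler k X (CohB1.tensorMod M L) = Curv2.euler k X M := by
  haveI := Groth.L21.RR.isNoetherian_of_proper (X := X) k
  let E := AlgebraicClosure k
  let g := projE k E X
  have sq : IsPullback g (XE k E X ↘ Spec (CommRingCat.of E)) (X ↘ Spec (CommRingCat.of k))
      (Spec.map (CommRingCat.ofHom (algebraMap k E))) := IsPullback.of_hasPullback _ _
  haveI := Groth.L21.RR.isNoetherian_of_proper (X := XE k E X) E
  obtain ⟨Q, hQ, ⟨e⟩⟩ := Groth.L08.Cube.exists_inverse hL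
  have hNT : NT E ((Scheme.Modules.pullback g).obj L) := by
    refine ⟨Groth.L18.Ample.isInvertible_pullback g hL, ?_⟩
    rw [numZero_iff_isNef E (Groth.L18.Ample.isInvertible_pullback g hL) (Groth.L18.Ample.isInvertible_pullback g hQ)
      (Groth.L29.DC.PullTensor.pullTensor g L Q ≪≫ (Scheme.Modules.pullback g).mapIso e ≪≫
        Groth.L29.LocFree.pullbackUnitIso g), ← isNef_XE_iff k E hL, ← isNef_XE_iff k E hQ]
    exact (numZero_iff_isNef k hL hQ e).1 h0
  have hMg : Coh.IsCoh ((Scheme.Modules.pullback g).obj M) := Groth.L16.AffineBC.isCoh_pullback g hM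
  rw [← Groth.L21.RR.euler_pullback g sq (isCoh_tensor hL hM), ← Groth.L21.RR.euler_pullback g sq hM,
    euler_iso (Groth.L29.DC.PullTensor.pullTensor g M L).symm]
  exact euler_invariant_closed E hNT hMg

end Groth.L11.NumOrth
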