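import Groth.Agent.L11.NumOrth.Main
import Groth.Agent.L22.Nef.Kleiman
import Groth.Agent.L22.GeomConn.Dims

/-!
# Nef modules and extensions of the ground field
-/

set_option autoImplicit false
set_option backward.isDefEq.respectTransparency false
set_option linter.style.haveILetI false
set_option linter.unusedSectionVars false

universe u

open CategoryTheory CategoryTheory.Limits AlgebraicGeometry TopologicalSpace

noncomputable section

namespace Groth.L11.NumOrth

open Groth.L22.Inter Groth.L22.Nef Groth.L22.Big Groth.L03.Euler Groth.L16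

/-- Degrees on a closed subscheme. -/
theorem deg_pullback_closed (k : Type u) [Field k] {X Y : Scheme.{u}} [X.Over (Spec (CommRingCat.of k))]
    [IsProper (X ↘ Spec (CommRingCat.of k))] [Y.Over (Spec (CommRingCat.of k))]
    [IsProper (Y ↘ Spec (CommRingCat.of k))] (i : Y ⟶ X) [IsClosedImmersion i]
    (hi : i ≫ (X ↘ Spec (CommRingCat.of k)) = Y ↘ Spec (CommRingCat.of k)) {L : X.Modules}
    (hL : PicF.IsInvertible L) (z : Y) (hz : topologicalKrullDim (closure ({z} : Set Y)) = (1 : ℕ)) :
    altT k (fun _ : Fin 1 => (Scheme.Modules.pullback i).obj L) (ClSub.quotMod (pt z)) =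
      altT k (fun _ : Fin 1 => L) (ClSub.quotMod (pt (i z))) := by
  haveI := isIntegral_pt z
  let e := (pt z).subschemeι
  letI : (pt z).subscheme.Over (Spec (CommRingCat.of k)) := ⟨e ≫ (Y ↘ Spec (CommRingCat.of k))⟩
  haveI : IsProper ((pt z).subscheme ↘ Spec (CommRingCat.of k)) :=
    inferInstanceAs (IsProper (e ≫ (Y ↘ Spec (CommRingCat.of k))))
  have hdz : topologicalKrullDim (pt z).subscheme = (1 : ℕ) := by
    rw [← dim_closure_image e, genericPoint_pt, hz]
  have h4 := altT_push_eq k e rfl hdz (L := fun _ : Fin 1 => (Scheme.Modules.pullback i).obj L)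
    fun _ => Groth.L18.Ample.isInvertible_pullback i hL
  have h5 := altT_push_eq k (e ≫ i) (by rw [Category.assoc, hi]; rfl) hdz (L := fun _ : Fin 1 => L) fun _ => hL
  rw [genericPoint_pt] at h4
  rw [Scheme.Hom.comp_apply, genericPoint_pt] at h5
  rw [← h5, ← h4]
  exact altT_congr k (fun _ => ⟨(Scheme.Modules.pullbackComp e i).app L⟩) _

variable (k E : Type u) [Field k] [Field E] [Algebra k E]

/-- The extended scheme. -/
abbrev XE (X : Scheme.{u}) [X.Over (Spec (CommRingCat.of k))] : Scheme.{u} :=
  pullback (X ↘ Spec (CommRingCat.of k)) (Spec.map (CommRingCat.ofHom (algebraMap k E)))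

instance (X : Scheme.{u}) [X.Over (Spec (CommRingCat.of k))] :
    (XE k E X).Over (Spec (CommRingCat.of E)) := ⟨pullback.snd _ _⟩

instance (X : Scheme.{u}) [X.Over (Spec (CommRingCat.of k))] [IsProper (X ↘ Spec (CommRingCat.of k))] :
    IsProper (XE k E X ↘ Spec (CommRingCat.of E)) :=
  inferInstanceAs (IsProper (pullback.snd (X ↘ Spec (CommRingCat.of k))
    (Spec.map (CommRingCat.ofHom (algebraMap k E)))))

/-- The projection. -/
abbrev projE (X : Scheme.{u}) [X.Over (Spec (CommRingCat.of k))] : XE k E X ⟶ X := pullback.fst _ _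

/-- A morphism over `k` after extension. -/
def mapE {W X : Scheme.{u}} [W.Over (Spec (CommRingCat.of k))] [X.Over (Spec (CommRingCat.of k))] (f : W ⟶ X)
    (hf : f ≫ (X ↘ Spec (CommRingCat.of k)) = W ↘ Spec (CommRingCat.of k)) : XE k E W ⟶ XE k E X :=
  pullback.lift (projE k E W ≫ f) (pullback.snd _ _) (by rw [Category.assoc, hf, pullback.condition])

theorem mapE_fst {W X : Scheme.{u}} [W.Over (Spec (CommRingCat.of k))] [X.Over (Spec (CommRingCat.of k))]
    (f : W ⟶ X) (hf : f ≫ (X ↘ Spec (CommRingCat.of k)) = W ↘ Spec (CommRingCat.of k)) :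
    mapE k E f hf ≫ projE k E X = projE k E W ≫ f := pullback.lift_fst _ _ _

theorem mapE_snd {W X : Scheme.{u}} [W.Over (Spec (CommRingCat.of k))] [X.Over (Spec (CommRingCat.of k))]
    (f : W ⟶ X) (hf : f ≫ (X ↘ Spec (CommRingCat.of k)) = W ↘ Spec (CommRingCat.of k)) :
    mapE k E f hf ≫ (XE k E X ↘ Spec (CommRingCat.of E)) = XE k E W ↘ Spec (CommRingCat.of E) :=
  pullback.lift_snd _ _ _

theorem mapE_isPullback {W X : Scheme.{u}} [W.Over (Spec (CommRingCat.of k))] [X.Over (Spec (CommRingCat.of k))]
    (f : W ⟶ X) (hf : f ≫ (X ↘ Spec (CommRingCat.of k)) = W ↘ Spec (CommRingCat.of k)) :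
    IsPullback (mapE k E f hf) (projE k E W) (projE k E X) f :=
  IsPullback.of_right (h₁₂ := pullback.snd _ _) (h₂₂ := X ↘ Spec (CommRingCat.of k))
    (v₁₃ := Spec.map (CommRingCat.ofHom (algebraMap k E)))
    (by rw [mapE, pullback.lift_snd, hf]; exact (IsPullback.of_hasPullback _ _).flip)
    (mapE_fst k E f hf) (IsPullback.of_hasPullback _ _).flip

variable {X : Scheme.{u}} [X.Over (Spec (CommRingCat.of k))] [IsProper (X ↘ Spec (CommRingCat.of k))]

/-- Points over a closed set of bounded dimension. -/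
theorem dim_closure_XE_le {y : X} {n : ℕ} (hy : topologicalKrullDim (closure ({y} : Set X)) = (n : WithBot ℕ∞))
    {z : XE k E X} (hz : projE k E X z ∈ closure ({y} : Set X)) :
    topologicalKrullDim (closure ({z} : Set (XE k E X))) ≤ (n : WithBot ℕ∞) := by
  let i := (pt y).subschemeι
  letI : (pt y).subscheme.Over (Spec (CommRingCat.of k)) := ⟨i ≫ (X ↘ Spec (CommRingCat.of k))⟩
  haveI : IsProper ((pt y).subscheme ↘ Spec (CommRingCat.of k)) :=
    inferInstanceAs (IsProper (i ≫ (X ↘ Spec (CommRingCat.of k))))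
  let j := mapE k E i rfl
  haveI : IsClosedImmersion j :=
    MorphismProperty.of_isPullback (P := @IsClosedImmersion) (mapE_isPullback k E i rfl).flip inferInstance
  have hr : Set.range j = projE k E X ⁻¹' closure ({y} : Set X) := by
    have h := mapE_isPullback k E i rfl
    show Set.range (mapE k E i rfl) = _
    rw [← h.isoPullback_hom_fst, Scheme.Hom.comp_base, TopCat.coe_comp, Set.range_comp,
      Set.range_eq_univ.2 h.isoPullback.hom.surjective, Set.image_univ, Scheme.Pullback.range_fst, range_pt]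
  obtain ⟨z₁, rfl⟩ : z ∈ Set.range j := by rw [hr]; exact hz
  obtain ⟨w, hwz, hw⟩ := Groth.L22.FibreDim.exists_maximal_specializes z₁
  obtain ⟨m, hm⟩ := Groth.L22.GeomConn.exists_nat_dim_closure (f := (pt y).subscheme ↘ Spec (CommRingCat.of k))
    (projE k E _ w)
  have hd := Groth.L22.Cyc.dim_closure_baseChange k E ((pt y).subscheme ↘ Spec (CommRingCat.of k)) _ _ _
    (IsPullback.of_hasPullback _ (Spec.map (CommRingCat.ofHom (algebraMap k E)))) hw hm
  have hmn : (m : WithBot ℕ∞) ≤ n := by
    rw [← hm, ← dim_closure_map i.isClosedEmbedding, ← hy]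
    exact topologicalKrullDim_set_mono (closure_minimal (Set.singleton_subset_iff.2
      ((range_pt y).le ⟨_, rfl⟩)) isClosed_closure)
  rw [dim_closure_map j.isClosedEmbedding]
  refine le_trans ?_ (hd.le.trans hmn)
  exact topologicalKrullDim_set_mono (closure_minimal (Set.singleton_subset_iff.2
    (specializes_iff_mem_closure.1 hwz)) isClosed_closure)

/-- A closed set all of whose points have small closures is small. -/
theorem dim_le_of_points {α : Type*} [TopologicalSpace α] [QuasiSober α] [T0Space α] {S : Set α} (hS : IsClosed S)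
    {n : ℕ} (h : ∀ w ∈ S, topologicalKrullDim (closure ({w} : Set α)) ≤ (n : WithBot ℕ∞)) :
    topologicalKrullDim S ≤ (n : WithBot ℕ∞) := by
  by_contra hne
  obtain ⟨w, hw, hwd⟩ := exists_point_dim_closure_ge hS (e := n + 1) (by
    refine le_of_not_gt fun hlt => hne ?_
    have h' := Groth.L22.Inter.add_one_le_of_lt hlt
    generalize topologicalKrullDim S = q at h' ⊢
    induction q using WithBot.recBotCoe with
    | bot => exact bot_le
    | coe q =>
      rw [show ((n + 1 : ℕ) : WithBot ℕ∞) = (((n : ℕ∞) + 1 : ℕ∞) : WithBot ℕ∞) by push_cast; rfl] at h'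
      exact_mod_cast (ENat.add_le_add_iff_right (by simp)).1 (WithBot.coe_le_coe.1 h'))
  have h2 : n + 1 ≤ n := by exact_mod_cast hwd.trans (h w hw)
  omega

/-- A common dimension bound. -/
theorem exists_nat_dim_le : ∃ D : ℕ, topologicalKrullDim X ≤ (D : WithBot ℕ∞) ∧
    topologicalKrullDim (XE k E X) ≤ (D : WithBot ℕ∞) := by
  haveI := Groth.L21.RR.isNoetherian_of_proper (X := X) k
  obtain ⟨S, hSf, hSc, hSi, hSu⟩ := NoetherianSpace.exists_finite_set_isClosed_irreducible
    (isClosed_univ (X := X))
  choose n hn using fun x : X => Groth.L22.GeomConn.exists_nat_dim_closure (X ↘ Spec (CommRingCat.of k)) x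
  classical
  let gp : S → X := fun C => (hSi C.1 C.2).genericPoint
  haveI := hSf.fintype
  refine ⟨Finset.univ.sup fun C => n (gp C), ?_, ?_⟩
  all_goals
    rw [← IsHomeomorph.topologicalKrullDim_eq _ (Homeomorph.Set.univ _).isHomeomorph]
    refine dim_le_of_points isClosed_univ fun w _ => ?_
  · obtain ⟨C, hC, hwC⟩ := Set.mem_sUnion.1 (hSu.le (Set.mem_univ w))
    refine le_trans ?_ (le_trans (hn (gp ⟨C, hC⟩)).le
      (by exact_mod_cast Finset.le_sup (f := fun C => n (gp C)) (Finset.mem_univ (⟨C, hC⟩ : S))))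
    exact topologicalKrullDim_set_mono (closure_minimal (Set.singleton_subset_iff.2
      (by rw [(hSi C hC).closure_genericPoint (hSc C hC)]; exact hwC)) isClosed_closure)
  · obtain ⟨C, hC, hwC⟩ := Set.mem_sUnion.1 (hSu.le (Set.mem_univ (projE k E X w)))
    refine le_trans (dim_closure_XE_le k E (hn (gp ⟨C, hC⟩)) ?_)
      (by exact_mod_cast Finset.le_sup (f := fun C => n (gp C)) (Finset.mem_univ (⟨C, hC⟩ : S)))
    rw [(hSi C hC).closure_genericPoint (hSc C hC)]
    exact hwC

/-- A nef module on a projective scheme stays nef. -/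
theorem isNef_XE_of_projective {A : X.Modules} (hA : CohB1.IsAmple A) {L : X.Modules} (hL : IsNef k L) :
    IsNef E ((Scheme.Modules.pullback (projE k E X)).obj L) := by
  haveI := Groth.L21.RR.isNoetherian_of_proper (X := XE k E X) E
  haveI : IsAffineHom (projE k E X) :=
    inferInstanceAs (IsAffineHom (pullback.fst (X ↘ Spec (CommRingCat.of k)) (Spec.map (CommRingCat.ofHom (algebraMap k E)))))
  set pb := Scheme.Modules.pullback (projE k E X) with hpb
  have hLE : PicF.IsInvertible (pb.obj L) := Groth.L18.Ample.isInvertible_pullback _ hL.1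
  have hAE : PicF.IsInvertible (pb.obj A) := Groth.L18.Ample.isInvertible_pullback _ hA.1
  refine ⟨hLE, fun z hz => ?_⟩
  have hdz : topologicalKrullDim (CohB1.support (ClSub.quotMod (pt z))) ≤ (0 + 1 : ℕ) :=
    (topologicalKrullDim_set_mono (pt_facts z).2.1).trans hz.le
  have hcons : ∀ B : (XE k E X).Modules, (fun _ : Fin 1 => B) = Fin.cons B (Fin.elim0 : Fin 0 → (XE k E X).Modules) :=
    fun B => funext fun j => by rw [Subsingleton.elim j 0, Fin.cons_zero]
  have key : ∀ n : ℕ, 0 ≤ altT E (fun _ : Fin 1 => pb.obj A) (ClSub.quotMod (pt z)) +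
      n * altT E (fun _ : Fin 1 => pb.obj L) (ClSub.quotMod (pt z)) := fun n => by
    have h1 : IsNef E (pb.obj (CohB1.tensorMod A (CohB1.tensorPow L n))) :=
      IsNef.of_isAmple (Groth.L18.Ample.isAmple_pullback_of_isAffineHom _ (isAmple_tensor hA (hL.pow n)))
    have h2 := (h1.of_iso ((Groth.L29.DC.PullTensor.pullTensor (projE k E X) A (CohB1.tensorPow L n)).symm ≪≫
      Groth.L00.Tensor.tensorIso (Iso.refl _) (Groth.L18.Ample.pullPow (projE k E X) L n))).2 z hz
    have hp := Groth.L18.Ample.isInvertible_tensorPow hLE n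
    rw [hcons, altT_add E (fun i => i.elim0) hAE hp (pt_facts z).1 hdz,
      altT_pow E (fun i => i.elim0) hLE (pt_facts z).1 hdz, ← hcons, ← hcons] at h2
    exact h2
  by_contra hneg
  obtain ⟨n, hn⟩ := exists_nat_gt (altT E (fun _ : Fin 1 => pb.obj A) (ClSub.quotMod (pt z)) /
    (- altT E (fun _ : Fin 1 => pb.obj L) (ClSub.quotMod (pt z))))
  rw [div_lt_iff₀ (by linarith [not_le.1 hneg])] at hn
  have := key n
  linarith

/-- A nef module on an integral proper scheme stays nef. -/
theorem isNef_XE_of_integral [IsIntegral X] {L : X.Modules} (hL : IsNef k L) :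
    IsNef E ((Scheme.Modules.pullback (projE k E X)).obj L) := by
  obtain ⟨d, hd, -, -⟩ := Groth.L22.SchemeDim.exists_dim_eq_trdeg (k := k) (X := X)
  obtain ⟨W, hWi, oW, hWp, π, A, hπ, hπk, hπη, -, -, hA⟩ := exists_projective_modification k hd
  haveI := hWi; haveI := hπ; haveI := hWp
  haveI : Surjective π := ⟨fun y => closure_minimal
    (Set.singleton_subset_iff.2 (show genericPoint X ∈ Set.range π from ⟨_, hπη⟩)) π.isClosedMap.isClosed_range
    (show y ∈ closure ({genericPoint X} : Set X) by rw [(genericPoint_spec X).def]; trivial)⟩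
  haveI : Surjective (mapE k E π hπk) :=
    MorphismProperty.of_isPullback (P := @Surjective) (mapE_isPullback k E π hπk).flip inferInstance
  refine IsNef.of_pullback (mapE k E π hπk) (mapE_snd k E π hπk) (Groth.L18.Ample.isInvertible_pullback _ hL.1) ?_
  exact (isNef_XE_of_projective k E hA (hL.pullback' π hπk)).of_iso
    ((Scheme.Modules.pullbackComp (projE k E W) π).app L ≪≫
      (Scheme.Modules.pullbackCongr (mapE_fst k E π hπk)).symm.app L ≪≫
      ((Scheme.Modules.pullbackComp (mapE k E π hπk) (projE k E X)).app L).symm)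

/-- Nefness is invariant under extension of the ground field. -/
theorem isNef_XE_iff {L : X.Modules} (hL : PicF.IsInvertible L) :
    IsNef k L ↔ IsNef E ((Scheme.Modules.pullback (projE k E X)).obj L) := by
  haveI := Groth.L21.RR.isNoetherian_of_proper (X := X) k
  haveI := Groth.L21.RR.isNoetherian_of_proper (X := XE k E X) E
  have hLE := Groth.L18.Ample.isInvertible_pullback (projE k E X) hL
  constructor
  · intro h
    refine ⟨hLE, fun z hz => ?_⟩
    let x := projE k E X z
    haveI := isIntegral_pt x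
    let i := (pt x).subschemeι
    letI : (pt x).subscheme.Over (Spec (CommRingCat.of k)) := ⟨i ≫ (X ↘ Spec (CommRingCat.of k))⟩
    haveI : IsProper ((pt x).subscheme ↘ Spec (CommRingCat.of k)) :=
      inferInstanceAs (IsProper (i ≫ (X ↘ Spec (CommRingCat.of k))))
    haveI : IsClosedImmersion (mapE k E i rfl) :=
      MorphismProperty.of_isPullback (P := @IsClosedImmersion) (mapE_isPullback k E i rfl).flip inferInstance
    obtain ⟨x₁, hx₁⟩ : x ∈ Set.range i := by rw [range_pt]; exact subset_closure rfl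
    obtain ⟨z₁, hz₁⟩ : z ∈ Set.range (mapE k E i rfl) := by
      have hp := mapE_isPullback k E i rfl
      rw [← hp.isoPullback_hom_fst, Scheme.Hom.comp_base, TopCat.coe_comp, Set.range_comp,
        Set.range_eq_univ.2 hp.isoPullback.hom.surjective, Set.image_univ, Scheme.Pullback.range_fst]
      exact ⟨x₁, hx₁⟩
    rw [← hz₁, dim_closure_map (mapE k E i rfl).isClosedEmbedding] at hz
    rw [← hz₁]
    have h1 := (isNef_XE_of_integral k E (X := (pt x).subscheme) (h.pullback i rfl)).of_iso
      ((Scheme.Modules.pullbackComp (projE k E _) i).app L ≪≫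
        (Scheme.Modules.pullbackCongr (mapE_fst k E i rfl)).symm.app L ≪≫
        ((Scheme.Modules.pullbackComp (mapE k E i rfl) (projE k E X)).app L).symm)
    have h2 := h1.2 z₁ hz
    exact h2.trans_eq (deg_pullback_closed E (mapE k E i rfl) (mapE_snd k E i rfl) hLE z₁ hz)
  · intro h
    refine ⟨hL, fun y hy => ?_⟩
    obtain ⟨hF, hFs, -⟩ := pt_facts y
    haveI : Coh.IsQCoh (ClSub.quotMod (pt y)) := hF.1
    have hFd : topologicalKrullDim (CohB1.support (ClSub.quotMod (pt y))) ≤ (1 : ℕ) :=
      (topologicalKrullDim_set_mono hFs).trans hy.le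
    obtain ⟨D, hD⟩ := exists_nat_dim_le k E (X := X)
    have hbc : ((FGA.intNum E (XE k E X) D (fun _ : Fin 1 => (Scheme.Modules.pullback (projE k E X)).obj L)
        ((Scheme.Modules.pullback (projE k E X)).obj (ClSub.quotMod (pt y))) : ℤ) : ℚ) =
        (FGA.intNum k X D (fun _ : Fin 1 => L) (ClSub.quotMod (pt y)) : ℤ) :=
      congrArg (Int.cast : ℤ → ℚ) (Groth.Agent.S11747.result k E X D hD.1 (fun _ : Fin 1 => L) (fun _ => hL)
        (ClSub.quotMod (pt y)) hF hFd)
    rw [intNum_eq k hD.1, intNum_eq E hD.2] at hbc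
    rw [← mul_left_cancel₀ (pow_ne_zero 1 (by norm_num)) hbc]
    have hF' := Groth.L19.LimMod.isCoh_pullback' (projE k E X) hF
    have hd' : topologicalKrullDim (CohB1.support ((Scheme.Modules.pullback (projE k E X)).obj
        (ClSub.quotMod (pt y)))) ≤ (1 : ℕ) := by
      refine dim_le_of_points (CohSupport.isClosed_support _ hF'.2) fun w hw => dim_closure_XE_le k E hy ?_
      rw [Groth.L19.SupportPullback.support_pullback _ _ hF.2] at hw
      exact hFs hw
    exact altT_nonneg_of_points E (fun _ => hLE) hF' hd' fun z hz => h.2 z hz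

end Groth.L11.NumOrth
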