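import Groth.Agent.L22.Reg.Closed
import Groth.Agent.L22.Reg.Forms
import Groth.Agent.L22.EnrSev.Mult
import Groth.Agent.L11.NumOrth.NefBC
import Groth.Agent.L18.AmpleGG
import Groth.Agent.L22.Inter.Top

/-!
# Twists and hyperplane sequences on a projective scheme
-/

set_option autoImplicit false
set_option backward.isDefEq.respectTransparency false
set_option linter.style.haveILetI false
set_option linter.unusedSectionVars false

universe u

open CategoryTheory CategoryTheory.Limits AlgebraicGeometry TopologicalSpace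

noncomputable section

namespace Groth.L11.NumOrth

open Groth.L16 Groth.L22.Nef Groth.L22.Inter Groth.L03.Euler
open Groth.L22.Reg (O' tw')
open Groth.L00.Tensor (tensorMap tensorIso tensorAssoc tensorComm tensorUnitRight tensorUnitLeft)

variable {k : Type u} [Field k] {n : ℕ} {X : Scheme.{u}} (i : X ⟶ CohB1.ProjSpace n k)

/-- The twisting modules of the embedded scheme. -/
abbrev OX (d : ℤ) : X.Modules := (Scheme.Modules.pullback i).obj (Twist.twistProjSpace n k d)

theorem isInvertible_OX (d : ℤ) : PicF.IsInvertible (OX i d) :=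
  Groth.L18.Ample.isInvertible_pullback i (ProjTwist.isInvertible_twistProjSpace n k d)

theorem nonempty_OX_add {a b c : ℤ} (h : a + b = c) :
    Nonempty (CohB1.tensorMod (OX i a) (OX i b) ≅ OX i c) := by
  obtain ⟨e⟩ := Groth.L22.Reg.nonempty_O_add (n := n) (R := k) h
  exact ⟨Groth.L29.DC.PullTensor.pullTensor i _ _ ≪≫ (Scheme.Modules.pullback i).mapIso e⟩

theorem nonempty_OX_zero : Nonempty (OX i 0 ≅ Coh.structureModule X) := by
  obtain ⟨e⟩ := Groth.L22.Reg.nonempty_O_zero n k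
  exact ⟨(Scheme.Modules.pullback i).mapIso e ≪≫ Groth.L29.LocFree.pullbackUnitIso i⟩

theorem nonempty_twist_twist (F : X.Modules) {a b c : ℤ} (h : a + b = c) :
    Nonempty (Pic13.twistOn k i (Pic13.twistOn k i F a) b ≅ Pic13.twistOn k i F c) := by
  obtain ⟨e⟩ := nonempty_OX_add i h
  exact ⟨tensorAssoc F _ _ ≪≫ tensorIso (Iso.refl F) e⟩

theorem nonempty_twist_zero (F : X.Modules) : Nonempty (Pic13.twistOn k i F 0 ≅ F) := by
  obtain ⟨e⟩ := nonempty_OX_zero i
  exact ⟨tensorIso (Iso.refl F) e ≪≫ tensorUnitRight F⟩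

theorem nonempty_pow_OX : ∀ t : ℕ, Nonempty (CohB1.tensorPow (OX i 1) t ≅ OX i (t : ℤ))
  | 0 => ⟨(nonempty_OX_zero i).some.symm⟩
  | t + 1 => by
    obtain ⟨e⟩ := nonempty_pow_OX t
    obtain ⟨e'⟩ := nonempty_OX_add i (show (t : ℤ) + 1 = ((t + 1 : ℕ) : ℤ) by push_cast; ring)
    exact ⟨tensorIso e (Iso.refl _) ≪≫ e'⟩

/-- Twisting commutes with tensoring. -/
def twistTensor (F L : X.Modules) (d : ℤ) :
    Pic13.twistOn k i (CohB1.tensorMod F L) d ≅ CohB1.tensorMod (Pic13.twistOn k i F d) L :=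
  tensorAssoc F L _ ≪≫ tensorIso (Iso.refl F) (tensorComm L _) ≪≫ (tensorAssoc F _ L).symm

variable [IsClosedImmersion i]

theorem isAmple_OX_one : CohB1.IsAmple (OX i 1) := by
  obtain ⟨ε⟩ : Nonempty (Groth.L18.PUP.O1 n k ≅ Twist.twistProjSpace n k 1) := ⟨Iso.refl _⟩
  exact Groth.L18.Ample.isAmple_pullback_of_isAffineHom i
    (Groth.L18.Ample.isAmple_of_iso ε (Groth.L22.VeryAmple.isAmple_O1 n k))

variable [Infinite k]

/-- A section of `O(1)` avoiding finitely many points. -/
theorem exists_section_avoiding {S : Set X} (hS : S.Finite) :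
    ∃ s : Coh.structureModule X ⟶ OX i 1, S ⊆ CohB1.genLocus (OX i 1) s := by
  obtain ⟨f, hf⟩ := Groth.L22.Reg.exists_form_avoiding (n := n) (k := k) (hS.image i)
  refine ⟨Groth.L18.Ample.pullHom i (ProjTwist.sect (CohB1.polyGrading n k) f), fun x hx => ?_⟩
  show x ∈ CohB1.genLocus _ _
  rw [Groth.L18.Ample.genLocus_pullHom i (ProjTwist.isInvertible_twistProjSpace n k 1)]
  show i x ∈ CohB1.genLocus _ _
  exact (ProjTwist.genLocus_sect (CohB1.polyGrading n k) (Groth.L22.Reg.hcov n k) f).ge (hf _ ⟨x, hx, rfl⟩)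

/-- A closed subset avoiding all maximal points is smaller. -/
theorem dim_add_one_le {T T' : Set X} [NoetherianSpace X] (hT : IsClosed T) (hT' : IsClosed T') (hsub : T' ⊆ T)
    {S : Set (Set X)} (hSf : S.Finite) (hSc : ∀ C ∈ S, IsClosed C) (hSu : T = ⋃₀ S)
    (hSi : ∀ C ∈ S, IsIrreducible C) (h : ∀ C (hC : C ∈ S), (hSi C hC).genericPoint ∉ T') {d : ℕ}
    (hd : topologicalKrullDim T ≤ (d : WithBot ℕ∞)) : topologicalKrullDim T' + 1 ≤ (d : WithBot ℕ∞) := by
  rcases T'.eq_empty_or_nonempty with rfl | hne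
  · rw [Groth.L03.Euler.topologicalKrullDim_of_empty rfl, WithBot.bot_add]; exact bot_le
  by_contra hne'
  have h1 : ((d : ℕ) : WithBot ℕ∞) ≤ topologicalKrullDim T' := by
    refine le_of_not_gt fun hlt => hne' (Groth.L22.Inter.add_one_le_of_lt hlt)
  obtain ⟨w, hw, hwd⟩ := Groth.L03.Euler.exists_point_dim_closure_ge hT' h1
  obtain ⟨C, hC, hwC⟩ := Set.mem_sUnion.1 (hSu.le (hsub hw))
  have hg := (hSi C hC).closure_genericPoint (hSc C hC)
  have h2 := Groth.L03.Euler.topologicalKrullDim_add_one_le (isClosed_closure (s := ({w} : Set X))) (hSi C hC)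
    (closure_minimal (Set.singleton_subset_iff.2 hwC) (hSc C hC))
    (fun e => h C hC (closure_minimal (Set.singleton_subset_iff.2 hw) hT'
      (e ▸ hg.le (subset_closure rfl))))
  have h3 := (add_le_add_left hwd 1).trans (h2.trans ((topologicalKrullDim_set_mono
    (hSu.ge.trans' (Set.subset_sUnion_of_mem hC))).trans hd))
  have : d + 1 ≤ d := by exact_mod_cast h3
  omega

/-- The hyperplane sequence of a coherent module. -/
theorem exists_hyperplane [IsNoetherian X] {F : X.Modules} (hF : Coh.IsCoh F) {d : ℕ}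
    (hd : topologicalKrullDim (CohB1.support F) ≤ (d : WithBot ℕ∞)) :
    ∃ (G : X.Modules) (f : Pic13.twistOn k i F (-1) ⟶ F) (g : F ⟶ G) (h : f ≫ g = 0),
      (ShortComplex.mk f g h).ShortExact ∧ Coh.IsCoh G ∧
      topologicalKrullDim (CohB1.support G) + 1 ≤ (d : WithBot ℕ∞) := by
  haveI := hF.1
  have hT := CohSupport.isClosed_support F hF.2
  obtain ⟨S, hSf, hSc, hSi, hSu⟩ := NoetherianSpace.exists_finite_set_isClosed_irreducible hT
  haveI := hSf.to_subtype
  let gp : S → X := fun C => (hSi C.1 C.2).genericPoint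
  obtain ⟨s, hs⟩ := exists_section_avoiding i
    ((Groth.L22.EnrSev.finite_setOf_isAssPoint hF.2).union (Set.finite_range gp))
  have hF1 : Coh.IsCoh (Pic13.twistOn k i F (-1)) := Groth.L22.Reg.isCoh_twistOn i hF _
  haveI := hF1.1
  obtain ⟨e1⟩ := nonempty_twist_twist i F (show -1 + 1 = (0 : ℤ) by norm_num)
  obtain ⟨e0⟩ := nonempty_twist_zero i F
  let μ := Groth.L03.Euler.mulSection (Pic13.twistOn k i F (-1)) s
  haveI : Mono μ := Groth.L22.EnrSev.mono_of_injective_ass μ fun x hx =>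
    (Groth.L03.Euler.bijective_mulSection _ s (hs (Or.inl
      ((Groth.L22.EnrSev.isAssPoint_tensor_iff (isInvertible_OX i (-1)) F x).1 hx)))).1
  let f : Pic13.twistOn k i F (-1) ⟶ F := μ ≫ (e1 ≪≫ e0).hom
  haveI : Mono f := mono_comp _ _
  have hkc := CohKernel.isCoh_kernel_cokernel hF1 hF f
  refine ⟨cokernel f, f, cokernel.π f, cokernel.condition f,
    { exact := ShortComplex.exact_cokernel f }, hkc.2, ?_⟩
  let ec : cokernel f ≅ cokernel μ := cokernelCompIsIso μ (e1 ≪≫ e0).hom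
  have hsupp : CohB1.support (cokernel f) ⊆ CohB1.support F \ (CohB1.genLocus _ s : Set X) := by
    intro x hx
    have hx' : x ∈ CohB1.support (cokernel μ) := Groth.L21.Mod.support_mono ec.hom hx
    rw [Groth.L03.Euler.support_cokernel_mulSection hF1 (isInvertible_OX i 1)] at hx'
    exact ⟨(Groth.L03.Euler.support_tensor (isInvertible_OX i (-1)) F).le hx'.1, hx'.2⟩
  exact dim_add_one_le hT (CohSupport.isClosed_support _ hkc.2.2) (hsupp.trans Set.sdiff_subset) hSf hSc hSu hSi
    (fun C hC h => (hsupp h).2 (hs (Or.inr ⟨⟨C, hC⟩, rfl⟩))) hd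

end Groth.L11.NumOrth
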