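import Groth.Agent.L02.Num.Equiv

/-!
# Numerical triviality at points
-/

set_option autoImplicit false
set_option backward.isDefEq.respectTransparency false
set_option linter.style.haveILetI false

universe u

open CategoryTheory CategoryTheory.Limits AlgebraicGeometry TopologicalSpace

noncomputable section

namespace Groth.L11.NumOrth

open Groth.L22.Inter Groth.L22.Nef Groth.L03.Euler

variable (k : Type u) [Field k] {X : Scheme.{u}} [X.Over (Spec (CommRingCat.of k))]
  [IsProper (X ↘ Spec (CommRingCat.of k))]

/-- Numerical triviality is degree zero on the closures of points. -/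
theorem numZero_iff {L : X.Modules} (hL : PicF.IsInvertible L) : Pic13.IsNumEquivZero k X L ↔
    ∀ y : X, topologicalKrullDim (closure ({y} : Set X)) = (1 : ℕ) →
      altT k (fun _ : Fin 1 => L) (ClSub.quotMod (pt y)) = 0 := by
  constructor
  · intro h y hy
    haveI := isIntegral_pt y
    have hdy : topologicalKrullDim (pt y).subscheme = (1 : ℕ) := by
      rw [← dim_closure_image (pt y).subschemeι, genericPoint_pt, hy]
    have h1 := curveDeg_eq k hL (pt y).subschemeι hdy
    rw [genericPoint_pt] at h1
    rw [← h1, h _ (pt y).subschemeι inferInstance hdy, Int.cast_zero]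
  · intro h Y ι _ hY hd
    haveI := hY
    have hd' : topologicalKrullDim Y = (1 : ℕ) := by exact_mod_cast hd
    have h1 := (curveDeg_eq k hL ι hd').trans (h _ ((dim_closure_image ι).trans hd'))
    exact_mod_cast h1

/-- Numerical triviality is nefness of the module and of an inverse. -/
theorem numZero_iff_isNef {L Q : X.Modules} (hL : PicF.IsInvertible L) (hQ : PicF.IsInvertible Q)
    (e : CohB1.tensorMod L Q ≅ Coh.structureModule X) :
    Pic13.IsNumEquivZero k X L ↔ IsNef k L ∧ IsNef k Q := by
  rw [numZero_iff k hL]
  have hsum : ∀ y : X, topologicalKrullDim (closure ({y} : Set X)) = (1 : ℕ) →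
      altT k (fun _ : Fin 1 => L) (ClSub.quotMod (pt y)) + altT k (fun _ : Fin 1 => Q) (ClSub.quotMod (pt y)) = 0 :=
    fun y hy => by
      rw [← Groth.L02.Num.deg_tensor hL hQ y hy, altT_congr k (fun _ => ⟨e⟩)]
      exact Groth.L02.Num.deg_unit y
  constructor
  · intro h
    exact ⟨⟨hL, fun y hy => (h y hy).ge⟩, ⟨hQ, fun y hy => by linarith [h y hy, hsum y hy]⟩⟩
  · rintro ⟨h1, h2⟩ y hy
    linarith [hsum y hy, h1.2 y hy, h2.2 y hy]

end Groth.L11.NumOrth
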