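import Groth.Agent.L02.Quot.Bounded
import Groth.Agent.L22.Reg.Lin
import Groth.Agent.L22.Reg.Closed
import Groth.Agent.L22.Inter.Fga
import Groth.Agent.S12111
import Groth.Agent.L11.NumOrth.Hyperplane
import Groth.Agent.L16.NegPow.Gen
import Groth.Agent.L17.Strat.Euler

/-!
# Regular modules with given Hilbert polynomial form a bounded family
-/

set_option autoImplicit false
set_option backward.isDefEq.respectTransparency false
set_option linter.style.haveILetI false
set_option linter.unusedSectionVars false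

universe u

open CategoryTheory CategoryTheory.Limits AlgebraicGeometry TopologicalSpace

noncomputable section

namespace Groth.L11.Bounded

open Groth.L00.Tensor (tensorMap tensorIso tensorRightF tensorUnitLeft tensorAssoc tensorUnitRight)
open Groth.L16
open Groth.L16.CohLinear (hmap hmap_comp overLin)
open Groth.L21.RR (e0 e0_hmap oneSec exists_hom_of_hh0)
open Groth.L18.GenLoc (secOf homOfSection_secOf)

/-- A globally generated coherent module is generated by any basis of its sections. -/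
theorem exists_epi_basis (k : Type u) [Field k] {X : Scheme.{u}} [X.Over (Spec (CommRingCat.of k))]
    [IsProper (X ↘ Spec (CommRingCat.of k))] {G : X.Modules} (hG : Coh.IsCoh G)
    (hgg : Curv2.IsGloballyGenerated G) {b : ℕ} (hb : Module.finrank k (Coh.HH X G 0) = b) :
    ∃ p : (∐ fun _ : Fin b => Coh.structureModule X) ⟶ G, Epi p := by
  subst hb
  haveI : Module.Finite k (Coh.HH X G 0) := Groth.L16.ProperFinite.finite_HH k hG 0
  let s := Module.finBasis k (Coh.HH X G 0)
  choose φ hφ using fun j => exists_hom_of_hh0 (s j)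
  let p : (∐ fun _ : Fin (Module.finrank k (Coh.HH X G 0)) => Coh.structureModule X) ⟶ G := Sigma.desc φ
  have hsurj : Function.Surjective (hmap p 0) := by
    suffices hr : LinearMap.range (overLin k (hmap p 0)) = ⊤ from fun y =>
      (LinearMap.range_eq_top.1 hr y)
    rw [eq_top_iff, ← s.span_eq, Submodule.span_le]
    rintro _ ⟨j, rfl⟩
    refine ⟨hmap (Sigma.ι (fun _ : Fin (Module.finrank k (Coh.HH X G 0)) => Coh.structureModule X) j) 0
      ((e0 _).symm (oneSec _)), ?_⟩
    refine (e0 G).injective ?_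
    show e0 G (hmap p 0 (hmap _ 0 _)) = e0 G (s j)
    rw [← hmap_comp, Sigma.ι_desc, e0_hmap, AddEquiv.apply_symm_apply, hφ]
  refine ⟨p, ?_⟩
  obtain ⟨ι, q, hq⟩ := hgg
  have hl : ∀ i : ι, ∃ l : Coh.structureModule X ⟶
      (∐ fun _ : Fin (Module.finrank k (Coh.HH X G 0)) => Coh.structureModule X),
      l ≫ p = Sigma.ι (fun _ : ι => Coh.structureModule X) i ≫ q := by
    intro i
    obtain ⟨z, hz⟩ := hsurj ((e0 G).symm (secOf (L := G)
      (Sigma.ι (fun _ : ι => Coh.structureModule X) i ≫ q)))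
    obtain ⟨l, hl⟩ := exists_hom_of_hh0 z
    refine ⟨l, (homOfSection_secOf _).symm.trans ((congrArg (Groth.L16.homOfSection G) ?_).trans
      (homOfSection_secOf _))⟩
    show p.app ⊤ (l.app ⊤ (oneSec _)) = _
    rw [hl, ← e0_hmap, hz, AddEquiv.apply_symm_apply]
  choose l hl using hl
  let lift : (SheafOfModules.free ι : X.Modules) ⟶
      (∐ fun _ : Fin (Module.finrank k (Coh.HH X G 0)) => Coh.structureModule X) := Sigma.desc l
  have he : lift ≫ p = q := Sigma.hom_ext _ _ fun i =>
    ((reassoc_of% (Sigma.ι_desc l i : Sigma.ι (fun _ : ι => Coh.structureModule X) i ≫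
      Sigma.desc l = l i)) p).trans (hl i)
  haveI : Epi (lift ≫ p) := by rw [he]; exact hq
  exact epi_of_epi lift p

variable {k : Type u} [Field k] [IsAlgClosed k] {n : ℕ} {X : Scheme.{u}} [X.Over (Spec (CommRingCat.of k))]
  (i : X ⟶ CohB1.ProjSpace n k) [IsClosedImmersion i]

/-- The two twisting modules agree. -/
theorem nonempty_OX_iso (d : ℤ) :
    Nonempty (Groth.L02.Quot.OX (i ≫ (Groth.L16.ProjSpace.isoOver n k).hom) d ≅
      (Scheme.Modules.pullback i).obj (Twist.twistProjSpace n k d)) := by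
  have h : (i ≫ (Groth.L16.ProjSpace.isoOver n k).hom) ≫
      pullback.fst (CohB1.ProjSpace.toSpec n (ULift.{u} ℤ)) (specULiftZIsTerminal.from (Spec (CommRingCat.of k))) =
      i ≫ Groth.L16.ProjSpace.map n ((algebraMap ℤ k).comp ULift.ringEquiv.toRingHom : ULift.{u} ℤ →+* k) := by
    rw [Category.assoc]
    exact congrArg (i ≫ ·) (Groth.L16.ProjSpace.isPullback_over n (R := k)).isoPullback_hom_fst
  exact ⟨(Scheme.Modules.pullbackComp _ _).app _ ≪≫ (Scheme.Modules.pullbackCongr h).app _ ≪≫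
    ((Scheme.Modules.pullbackComp _ _).app _).symm ≪≫
    (Scheme.Modules.pullback i).mapIso (Groth.L22.Reg.nonempty_pullback_O _ d).some⟩

include i in
theorem isCoh_sigma_twist (b : ℕ) (d : ℤ) :
    Coh.IsCoh (∐ fun _ : Fin b => Pic13.twistOn k i (Coh.structureModule X) d) := by
  haveI := Groth.L22.Reg.isLocallyNoetherian_closed i
  refine Groth.L16.CohSupport.isCoh_of_iso ?_ (Groth.L22.Reg.isCoh_twistOn i
    (F := ∐ fun _ : Fin b => Coh.structureModule X)
    (Groth.L16.NegPow.isCoh_of_isFinLocFree (M := FlatMod.freeMod X b)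
      fun x => ⟨⊤, b, trivial, ⟨Groth.L16.NegPow.freeRestrictIso _ _⟩⟩) d)
  haveI := Groth.L00.Tensor.preservesColimits_tensorRightF ((Scheme.Modules.pullback i).obj (Twist.twistProjSpace n k d))
  haveI : PreservesColimitsOfSize.{0, 0} (tensorRightF ((Scheme.Modules.pullback i).obj (Twist.twistProjSpace n k d))) :=
    preservesColimitsOfSize_shrink.{0, u, 0, u} _
  exact PreservesCoproduct.iso (tensorRightF ((Scheme.Modules.pullback i).obj (Twist.twistProjSpace n k d))) _

variable (hi : i ≫ CohB1.ProjSpace.toSpec n k = X ↘ Spec (CommRingCat.of k))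

include hi in
/-- An `m`-regular module is a quotient of `χ(F(m))` copies of `O(-m)`. -/
theorem exists_epi_twist {F : X.Modules} (hF : Coh.IsCoh F) {m : ℤ} (hm : Pic13.IsMRegular k i F m) {b : ℕ}
    (hb : FGA.eulerCharLE k X (Pic13.twistOn k i F m) n = (b : ℤ)) :
    ∃ q : (∐ fun _ : Fin b => Pic13.twistOn k i (Coh.structureModule X) (-m)) ⟶ F, Epi q := by
  haveI : IsProper (X ↘ Spec (CommRingCat.of k)) := by
    haveI := Groth.L22.Reg.isProper_over_proj (k := k) (n := n)
    rw [← hi]; exact inferInstanceAs (IsProper (i ≫ (CohB1.ProjSpace n k ↘ Spec (CommRingCat.of k))))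
  have hgg := (Groth.Agent.S12111.result k n i F hF m hm m le_rfl).2
  have hvan : ∀ q, 0 < q → Subsingleton (Coh.HH X (Pic13.twistOn k i F m) q) := by
    intro q hq
    have h := (Groth.Agent.S12111.result k n i F hF m hm (m + q) (by omega)).1 q hq
    rwa [add_sub_cancel_right] at h
  rw [Groth.L17.Strat.eulerCharLE_eq_finrank hvan] at hb
  obtain ⟨p, hp⟩ := exists_epi_basis k (Groth.L22.Reg.isCoh_twistOn i hF m) hgg (by exact_mod_cast hb)
  let T := (Scheme.Modules.pullback i).obj (Twist.twistProjSpace n k (-m))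
  haveI := Groth.L00.Tensor.preservesColimits_tensorRightF T
  haveI : PreservesColimitsOfSize.{0, 0} (tensorRightF T) := preservesColimitsOfSize_shrink.{0, u, 0, u} _
  haveI := hp
  haveI : Epi ((tensorRightF T).map p) := inferInstance
  obtain ⟨e1⟩ := Groth.L11.NumOrth.nonempty_twist_twist i F (show m + -m = (0 : ℤ) by omega)
  obtain ⟨e2⟩ := Groth.L11.NumOrth.nonempty_twist_zero i F
  refine ⟨(PreservesCoproduct.iso (tensorRightF T) _).inv ≫ (tensorRightF T).map p ≫ (e1 ≪≫ e2).hom, ?_⟩
  exact inferInstanceAs (Epi ((PreservesCoproduct.iso (tensorRightF T) _).inv ≫ (tensorRightF T).map p ≫ (e1 ≪≫ e2).hom))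

include hi in
/-- Regular modules with one Hilbert polynomial form a bounded family. -/
theorem isBounded_mRegular (m : ℤ) (φ : Polynomial ℚ) :
    Pic13.IsBounded k X (fun F : X.Modules => Coh.IsCoh F ∧ Pic13.IsMRegular k i F m ∧
      ∀ d : ℤ, (FGA.eulerCharLE k X (Pic13.twistOn k i F d) n : ℚ) = φ.eval (d : ℚ)) := by
  classical
  let i' := i ≫ (Groth.L16.ProjSpace.isoOver n k).hom
  have hi' : i' ≫ CohB1.ProjSpaceOver.toBase n (Spec (CommRingCat.of k)) = X ↘ Spec (CommRingCat.of k) := by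
    rw [Category.assoc, Groth.L16.ProjSpace.isoOver_hom_toBase]; exact hi
  let b : ℕ := ⌊φ.eval (m : ℚ)⌋.toNat
  let Φ : Set (ℤ → ℤ) := {g | ∀ r : ℤ, (g r : ℚ) = φ.eval (r : ℚ)}
  have hΦ : Φ.Finite := Set.Subsingleton.finite fun g hg g' hg' => funext fun r =>
    Int.cast_injective (α := ℚ) ((hg r).trans (hg' r).symm)
  have hB := Groth.L02.Quot.Bounded.isBounded i' (X ↘ Spec (CommRingCat.of k)) rfl hi'
    (∐ fun _ : Fin b => Pic13.twistOn k i (Coh.structureModule X) (-m)) (isCoh_sigma_twist i b (-m)) Φ hΦ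
  obtain ⟨T, q, h1, h2, G, hG, hGm⟩ := hB
  refine ⟨T, q, h1, h2, G, hG, fun F ⟨hF, hm, hφ⟩ => hGm F ⟨hF, ?_, fun r => ?_⟩⟩
  · haveI : IsProper (X ↘ Spec (CommRingCat.of k)) := by
      haveI := Groth.L22.Reg.isProper_over_proj (k := k) (n := n)
      rw [← hi]; exact inferInstanceAs (IsProper (i ≫ (CohB1.ProjSpace n k ↘ Spec (CommRingCat.of k))))
    have hvan : ∀ q, 0 < q → Subsingleton (Coh.HH X (Pic13.twistOn k i F m) q) := by
      intro q hq
      have h := (Groth.Agent.S12111.result k n i F hF m hm (m + q) (by omega)).1 q hq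
      rwa [add_sub_cancel_right] at h
    refine exists_epi_twist i hi hF hm ?_
    have h3 := hφ m
    rw [Groth.L17.Strat.eulerCharLE_eq_finrank hvan] at h3 ⊢
    have : ⌊φ.eval (m : ℚ)⌋ = (Module.finrank k (Coh.HH X (Pic13.twistOn k i F m) 0) : ℤ) := by
      rw [← h3, Int.floor_intCast]
    show _ = ((⌊φ.eval (m : ℚ)⌋.toNat : ℕ) : ℤ)
    rw [this, Int.toNat_natCast]
  · rw [← hφ r]
    exact_mod_cast Groth.L17.Strat.eulerCharLE_iso (tensorIso (Iso.refl F) (nonempty_OX_iso i r).some) n

end Groth.L11.Bounded
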