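import Groth.Agent.S1455
import Groth.Agent.S9769
import Groth.Agent.L16.SectionExtend
import Groth.Agent.L16.CohClosedPush
import Groth.Agent.L16.AffineBC.Pullback
import Groth.Agent.L16.ProperFinite
import Groth.Agent.L15.Ref.FreeLocus
import Groth.Agent.L20.FibreFree
import Groth.Agent.L29.DCoh.RelBC
import Groth.Agent.L21.Bundle.Lines
import Groth.Agent.L21.P1.Bases
import Groth.Agent.L19.ProjBdl.Basis
import Groth.Agent.L03.ShStab.RankOneSlope
import Groth.Agent.L18.Ample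
import Groth.Agent.L16.NegPow.Gen
import Groth.Agent.L04.SupportSh.Components
import Groth.Agent.L08.Cube.NoCurve
import Groth.Prelude.Def_Pic13

/-!
# Bounded families of invertible modules: finitely many connected families
-/

set_option autoImplicit false
set_option backward.isDefEq.respectTransparency false
set_option backward.isDefEq.respectTransparency.types false
set_option linter.style.haveILetI false
set_option linter.unusedSectionVars false

universe u

open CategoryTheory CategoryTheory.Limits AlgebraicGeometry TopologicalSpace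

noncomputable section

namespace Groth.L11.PicFam

open Groth.L00.Tensor (tensorIso tensorComm tensorAssoc tensorUnitRight tensorUnitLeft)

variable (k : Type u) [Field k] (X : Scheme.{u}) [X.Over (Spec (CommRingCat.of k))]

/-- A family of invertible modules over a connected base of finite type. -/
structure Fam where
  /-- base -/
  T : Scheme.{u}
  /-- structure morphism -/
  q : T ⟶ Spec (CommRingCat.of k)
  /-- the universal module -/
  M : (Pic13.prodK k X q).Modules
  conn : ConnectedSpace T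
  lft : LocallyOfFiniteType q
  qc : QuasiCompact q
  inv : PicF.IsInvertible M

variable {k X}

/-- Membership in a family. -/
def Fam.Mem (Φ : Fam k X) (L : X.Modules) : Prop :=
  ∃ (t : Spec (CommRingCat.of k) ⟶ Φ.T) (ht : t ≫ Φ.q = 𝟙 _), Nonempty (Pic13.fibreMod k X Φ.q t ht Φ.M ≅ L)

variable {T V : Scheme.{u}} (q : T ⟶ Spec (CommRingCat.of k)) (h : V ⟶ T)

/-- Restriction of the product along a map of bases. -/
def res : Pic13.prodK k X (h ≫ q) ⟶ Pic13.prodK k X q :=
  pullback.map _ _ _ _ (𝟙 _) h (𝟙 _) (by simp) (by simp)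

theorem res_fst : res (X := X) q h ≫ pullback.fst _ _ = pullback.fst _ _ :=
  (pullback.lift_fst _ _ _).trans (Category.comp_id _)

theorem res_snd : res (X := X) q h ≫ pullback.snd _ _ = pullback.snd _ _ ≫ h := pullback.lift_snd _ _ _

theorem isPullback_res :
    IsPullback (res (X := X) q h) (pullback.snd (X ↘ Spec (CommRingCat.of k)) (h ≫ q))
      (pullback.snd (X ↘ Spec (CommRingCat.of k)) q) h := by
  refine IsPullback.of_right (h₁₂ := pullback.fst _ _) (h₂₂ := q) (v₁₃ := X ↘ Spec (CommRingCat.of k)) ?_ (res_snd q h)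
    (IsPullback.of_hasPullback _ _)
  rw [res_fst]
  exact IsPullback.of_hasPullback _ _

theorem slice_res (t : Spec (CommRingCat.of k) ⟶ V) (ht : t ≫ h ≫ q = 𝟙 _) :
    Pic13.sliceAt k X (h ≫ q) t ht ≫ res q h =
      Pic13.sliceAt k X q (t ≫ h) (by rw [Category.assoc, ht]) := by
  refine pullback.hom_ext ?_ ?_
  · rw [Category.assoc, res_fst, Pic13.sliceAt, Pic13.sliceAt, pullback.lift_fst, pullback.lift_fst]
  · rw [Category.assoc, res_snd, Pic13.sliceAt, Pic13.sliceAt, pullback.lift_snd_assoc, pullback.lift_snd,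
      Category.assoc]

theorem fibre_res (F : (Pic13.prodK k X q).Modules) {t : Spec (CommRingCat.of k) ⟶ V} (ht : t ≫ h ≫ q = 𝟙 _)
    {s : Spec (CommRingCat.of k) ⟶ T} (hs : s ≫ q = 𝟙 _) (he : t ≫ h = s) :
    Nonempty (Pic13.fibreMod k X (h ≫ q) t ht ((Scheme.Modules.pullback (res q h)).obj F) ≅
      Pic13.fibreMod k X q s hs F) := by
  subst he
  exact ⟨(Scheme.Modules.pullbackComp _ _).app F ≪≫ (Scheme.Modules.pullbackCongr (slice_res q h t ht)).app F⟩

theorem isPullback_slice (t : Spec (CommRingCat.of k) ⟶ T) (ht : t ≫ q = 𝟙 _) :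
    IsPullback (Pic13.sliceAt k X q t ht) (X ↘ Spec (CommRingCat.of k))
      (pullback.snd (X ↘ Spec (CommRingCat.of k)) q) t := by
  refine IsPullback.of_right (h₁₂ := pullback.fst _ _) (h₂₂ := q) (v₁₃ := X ↘ Spec (CommRingCat.of k)) ?_
    (pullback.lift_snd _ _ _) (IsPullback.of_hasPullback _ _)
  rw [Pic13.sliceAt, pullback.lift_fst, ht]
  exact IsPullback.of_horiz_isIso ⟨by simp⟩

theorem exists_of_snd (t : Spec (CommRingCat.of k) ⟶ T) (ht : t ≫ q = 𝟙 _) (x : Pic13.prodK k X q)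
    (hx : pullback.snd (X ↘ Spec (CommRingCat.of k)) q x ∈ Set.range t) :
    ∃ x₀ : X, Pic13.sliceAt k X q t ht x₀ = x := by
  have sq := isPullback_slice (X := X) q t ht
  have hx' : x ∈ Set.range (pullback.fst (pullback.snd (X ↘ Spec (CommRingCat.of k)) q) t) := by
    rw [Scheme.Pullback.range_fst]; exact hx
  obtain ⟨z, rfl⟩ := hx'
  refine ⟨sq.isoPullback.inv z, ?_⟩
  rw [← Scheme.Hom.comp_apply, sq.isoPullback_inv_fst]

variable [IsProper (X ↘ Spec (CommRingCat.of k))]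

theorem noeth [LocallyOfFiniteType q] [QuasiCompact q] : IsNoetherian T := by
  haveI : IsLocallyNoetherian T := LocallyOfFiniteType.isLocallyNoetherian q
  haveI : CompactSpace T := QuasiCompact.compactSpace_of_compactSpace q
  exact {}

/-- A bounded family is covered by finitely many flat families. -/
theorem exists_flat [LocallyOfFiniteType q] [QuasiCompact q] (F : (Pic13.prodK k X q).Modules) (hF : Coh.IsCoh F) :
    ∃ (m : ℕ) (V : Fin m → Scheme.{u}) (h : ∀ j, V j ⟶ T),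
      (∀ j, LocallyOfFiniteType (h j ≫ q) ∧ QuasiCompact (h j ≫ q) ∧
        FlatMod.IsFlatOver (pullback.snd (X ↘ Spec (CommRingCat.of k)) (h j ≫ q))
          ((Scheme.Modules.pullback (res q (h j))).obj F)) ∧
      ∀ (t : Spec (CommRingCat.of k) ⟶ T), t ≫ q = 𝟙 _ →
        ∃ (j : Fin m) (t' : Spec (CommRingCat.of k) ⟶ V j), t' ≫ h j = t := by
  haveI := noeth q
  let f := pullback.snd (X ↘ Spec (CommRingCat.of k)) q
  haveI : IsLocallyNoetherian (Pic13.prodK k X q) := LocallyOfFiniteType.isLocallyNoetherian f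
  haveI : LocallyOfFinitePresentation f := LocallyOfFinitePresentation.iff_locallyOfFiniteType.2 inferInstance
  obtain ⟨m, I, -, hlast, h0, -, hflat⟩ := Groth.Agent.S1455.result f F hF.1 (Groth.L15.Ref.isFP_of_isCoh hF)
  let W : ∀ j : Fin m, (I j.castSucc).subscheme.Opens := fun j => (I j.castSucc).subschemeι ⁻¹ᵁ (I j.succ).support.compl
  let h : ∀ j : Fin m, (W j : Scheme.{u}) ⟶ T := fun j => (W j).ι ≫ (I j.castSucc).subschemeι
  refine ⟨m, fun j => (W j : Scheme.{u}), h, fun j => ?_, fun t ht => ?_⟩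
  · haveI : NoetherianSpace (I j.castSucc).subscheme :=
      (I j.castSucc).subschemeι.isClosedEmbedding.isInducing.noetherianSpace
    haveI : IsLocallyNoetherian (I j.castSucc).subscheme :=
      LocallyOfFiniteType.isLocallyNoetherian (I j.castSucc).subschemeι
    haveI : LocallyOfFiniteType (h j) := inferInstanceAs (LocallyOfFiniteType ((W j).ι ≫ _))
    haveI : QuasiCompact (h j) := inferInstanceAs (QuasiCompact ((W j).ι ≫ _))
    refine ⟨inferInstance, inferInstance, ?_⟩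
    have sq := isPullback_res (X := X) q (h j)
    have sq' : IsPullback sq.isoPullback.hom (pullback.snd (X ↘ Spec (CommRingCat.of k)) (h j ≫ q))
        (pullback.snd f (h j)) (𝟙 _) :=
      IsPullback.of_horiz_isIso ⟨by rw [sq.isoPullback_hom_snd, Category.comp_id]⟩
    refine Groth.L29.DC.RelBC.isFlatOver_of_iso _ ?_ (Groth.L29.DC.RelBC.isFlatOver_pullback sq' (hflat j))
    exact (Scheme.Modules.pullbackComp _ _).app F ≪≫
      (Scheme.Modules.pullbackCongr sq.isoPullback_hom_fst).app F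
  let s := t (IsLocalRing.closedPoint k)
  have hrange : Set.range t = {s} := by
    ext y
    constructor
    · rintro ⟨p, rfl⟩
      rw [show p = IsLocalRing.closedPoint k from @Subsingleton.elim (PrimeSpectrum k) _ _ _]
      rfl
    · rintro rfl; exact ⟨_, rfl⟩
  have key : ∀ (a : Fin (m + 1)), s ∉ (I a).support → a = 0 ∨ (∃ j : Fin m, s ∈ (I j.castSucc).support ∧ s ∉ (I j.succ).support) := by
    intro a
    induction a using Fin.induction with
    | zero => exact fun _ => Or.inl rfl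
    | succ a ih =>
      intro ha
      by_cases hc : s ∈ (I a.castSucc).support
      · exact Or.inr ⟨a, hc, ha⟩
      · rcases ih hc with h' | h'
        · exfalso
          refine hc ?_
          rw [h']
          exact (SetLike.mem_coe.1 (h0.ge (Set.mem_univ s)))
        · exact Or.inr h'
  obtain ⟨j, hj, hj'⟩ : ∃ j : Fin m, s ∈ (I j.castSucc).support ∧ s ∉ (I j.succ).support := by
    rcases key (Fin.last m) (by rw [hlast, Scheme.IdealSheafData.support_top]; exact Set.notMem_empty s) with h' | h'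
    · exfalso
      have h1 : s ∈ (I 0).support := SetLike.mem_coe.1 (h0.ge (Set.mem_univ s))
      rw [← h', hlast, Scheme.IdealSheafData.support_top] at h1
      exact Set.notMem_empty s h1
    · exact h'
  haveI : IsReduced (Spec (CommRingCat.of k)) := inferInstance
  obtain ⟨t₁, ht₁⟩ := Groth.L16.exists_lift_subscheme_of_range_subset (I j.castSucc) t (by
    rw [hrange, (I j.castSucc).range_subschemeι]; exact Set.singleton_subset_iff.2 hj)
  have hr : Set.range t₁ ⊆ Set.range (W j).ι := by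
    rintro _ ⟨p, rfl⟩
    rw [Scheme.Opens.range_ι]
    show (I j.castSucc).subschemeι (t₁ p) ∈ (I j.succ).support.compl
    rw [← Scheme.Hom.comp_apply, ht₁, show p = IsLocalRing.closedPoint k from @Subsingleton.elim (PrimeSpectrum k) _ _ _]
    exact hj'
  refine ⟨j, IsOpenImmersion.lift (W j).ι t₁ hr, ?_⟩
  rw [← Category.assoc, IsOpenImmersion.lift_fac, ht₁]

/-- The open locus where a module is a line bundle. -/
def lineLocus {P : Scheme.{u}} (F : P.Modules) : P.Opens where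
  carrier := {x | ∃ W : P.Opens, x ∈ W ∧ Nonempty (F.restrict W.ι ≅ FlatMod.freeMod (↑W) 1)}
  is_open' := isOpen_iff_forall_mem_open.2 fun _ ⟨W, hx, hW⟩ => ⟨W, fun _ hy => ⟨W, hy, hW⟩, W.2, hx⟩

/-- Flat families: invertible fibres come from line bundle points. -/
theorem mem_lineLocus [LocallyOfFiniteType q] [QuasiCompact q] {F : (Pic13.prodK k X q).Modules} (hF : Coh.IsCoh F)
    (hfl : FlatMod.IsFlatOver (pullback.snd (X ↘ Spec (CommRingCat.of k)) q) F)
    (t : Spec (CommRingCat.of k) ⟶ T) (ht : t ≫ q = 𝟙 _) (hinv : PicF.IsInvertible (Pic13.fibreMod k X q t ht F))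
    (x₀ : X) : Pic13.sliceAt k X q t ht x₀ ∈ lineLocus F := by
  haveI := noeth q
  let f := pullback.snd (X ↘ Spec (CommRingCat.of k)) q
  haveI : IsLocallyNoetherian (Pic13.prodK k X q) := LocallyOfFiniteType.isLocallyNoetherian f
  haveI : LocallyOfFinitePresentation f := LocallyOfFinitePresentation.iff_locallyOfFiniteType.2 inferInstance
  haveI : IsLocallyNoetherian X := LocallyOfFiniteType.isLocallyNoetherian (X ↘ Spec (CommRingCat.of k))
  let σ := Pic13.sliceAt k X q t ht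
  obtain ⟨W₀, hxW₀, ⟨e₀⟩⟩ := Groth.L03.ShStab.RankOneSlope.rank_one_of_invertible hinv x₀
  have hfree₀ : Module.Free (X.presheaf.stalk x₀) (((Scheme.Modules.pullback σ).obj F).presheaf.stalk x₀) :=
    Groth.L15.Ref.free_of_restrict _ (Groth.L16.AffineBC.isCoh_pullback σ hF) (U := W₀)
      (fun y => ⟨⊤, 1, trivial, ⟨(Scheme.Modules.restrictFunctor (⊤ : (W₀ : Scheme.{u}).Opens).ι).mapIso e₀ ≪≫
        Groth.L16.NegPow.freeRestrictIso _ _⟩⟩) hxW₀
  have hfree : Module.Free ((Pic13.prodK k X q).presheaf.stalk (σ x₀)) (F.presheaf.stalk (σ x₀)) :=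
    (Set.ext_iff.1 (Groth.Agent.S9769.result f F (Groth.L15.Ref.isFP_of_isCoh hF) hfl t _ σ
      (isPullback_slice q t ht)) x₀).1 hfree₀
  obtain ⟨U, n, hxU, ⟨e⟩⟩ := Groth.L20.FibreFree.exists_free_nhd F (Groth.L15.Ref.isFP_of_isCoh hF) (σ x₀)
    (haveI := hfree; inferInstance)
  obtain ⟨e'⟩ := Groth.L29.LocFree.restrict_pullback σ e
  obtain ⟨b, hb⟩ := Groth.L17.FinLocBases.exists_isBasis _ e'
  obtain ⟨c, hc⟩ := Groth.L17.FinLocBases.exists_isBasis _ e₀
  obtain rfl : n = 1 := Groth.L21.P1.rank_eq_of_isBasisOn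
    (Groth.L19.ProjBdl.isBasisOn_of_locBases hb) (Groth.L19.ProjBdl.isBasisOn_of_locBases hc) (x := x₀)
    (by rw [Scheme.Opens.ι_image_top]; exact hxU) (by rw [Scheme.Opens.ι_image_top]; exact hxW₀)
  exact ⟨U, hxU, ⟨e⟩⟩

/-- A bounded family of invertible modules: finitely many connected invertible families. -/
theorem exists_fams {P : X.Modules → Prop} (hP : ∀ L, P L → PicF.IsInvertible L) (hb : Pic13.IsBounded k X P) :
    ∃ (m : ℕ) (Φ : Fin m → Fam k X), ∀ L, P L → ∃ j, (Φ j).Mem L := by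
  obtain ⟨T, q, hft, hqc, F, hF, hmem⟩ := hb
  haveI := hft; haveI := hqc
  obtain ⟨m, V, h, hV, hlift⟩ := exists_flat q F hF
  let G : ∀ j, (Pic13.prodK k X (h j ≫ q)).Modules := fun j => (Scheme.Modules.pullback (res q (h j))).obj F
  let f : ∀ j, Pic13.prodK k X (h j ≫ q) ⟶ V j := fun j => pullback.snd _ _
  let U : ∀ j, (V j).Opens := fun j => ⟨((f j) '' ((lineLocus (G j) : Set (Pic13.prodK k X (h j ≫ q)))ᶜ))ᶜ,
    ((f j).isClosedMap _ (lineLocus (G j)).2.isClosed_compl).isOpen_compl⟩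
  let r : ∀ j, (U j : Scheme.{u}) ⟶ Spec (CommRingCat.of k) := fun j => (U j).ι ≫ h j ≫ q
  have hr : ∀ j, LocallyOfFiniteType (r j) ∧ QuasiCompact (r j) ∧ IsNoetherian (U j : Scheme.{u}) := fun j => by
    haveI := (hV j).1; haveI := (hV j).2.1
    haveI := noeth (h j ≫ q)
    haveI : QuasiCompact (r j) := inferInstanceAs (QuasiCompact ((U j).ι ≫ h j ≫ q))
    haveI : LocallyOfFiniteType (r j) := inferInstanceAs (LocallyOfFiniteType ((U j).ι ≫ h j ≫ q))
    exact ⟨inferInstance, inferInstance, noeth (r j)⟩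
  have hfin : ∀ j, ∃ s : Finset (U j : Scheme.{u}), ∀ y : (U j : Scheme.{u}), ∃ c ∈ s, y ∈ connectedComponent c := fun j => by
    haveI := (hr j).2.2
    obtain ⟨s, hs⟩ := isCompact_univ.elim_finite_subcover (fun c : (U j : Scheme.{u}) => connectedComponent c)
      (fun c => Groth.L04.SupportSh.isOpen_connectedComponent c)
      (fun y _ => Set.mem_iUnion.2 ⟨y, mem_connectedComponent⟩)
    exact ⟨s, fun y => by simpa using hs (Set.mem_univ y)⟩
  choose s hs using hfin
  let ι : Type u := Σ j : Fin m, { c // c ∈ s j }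
  have hι : Finite ι := inferInstance
  let Wc : ∀ a : ι, (U a.1 : Scheme.{u}).Opens := fun a => ⟨connectedComponent a.2.1,
    haveI := (hr a.1).2.2; Groth.L04.SupportSh.isOpen_connectedComponent _⟩
  let g : ∀ a : ι, (Wc a : Scheme.{u}) ⟶ V a.1 := fun a => (Wc a).ι ≫ (U a.1).ι
  let Ψ : ι → Fam k X := fun a =>
    { T := (Wc a : Scheme.{u})
      q := g a ≫ h a.1 ≫ q
      M := (Scheme.Modules.pullback (res (h a.1 ≫ q) (g a))).obj (G a.1)
      conn := Subtype.connectedSpace isConnected_connectedComponent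
      lft := by
        haveI := (hr a.1).1
        rw [Category.assoc]
        exact inferInstanceAs (LocallyOfFiniteType ((Wc a).ι ≫ r a.1))
      qc := by
        haveI := (hr a.1).2.1
        haveI := (hr a.1).2.2
        rw [Category.assoc]
        exact inferInstanceAs (QuasiCompact ((Wc a).ι ≫ r a.1))
      inv := by
        refine Groth.L21.Bundle.isInvertible_of_rank fun x => ?_
        have hx : res (h a.1 ≫ q) (g a) x ∈ lineLocus (G a.1) := by
          by_contra hc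
          have h1 : g a (pullback.snd _ (g a ≫ h a.1 ≫ q) x) ∈ U a.1 :=
            ((Wc a).ι (pullback.snd _ (g a ≫ h a.1 ≫ q) x)).2
          refine h1 ⟨_, hc, ?_⟩
          show f a.1 (res (h a.1 ≫ q) (g a) x) = _
          rw [← Scheme.Hom.comp_apply, res_snd, Scheme.Hom.comp_apply]
        obtain ⟨W, hxW, ⟨e⟩⟩ := hx
        exact ⟨_, hxW, Groth.L29.LocFree.restrict_pullback _ e⟩ }
  let e := Finite.equivFin ι
  refine ⟨Nat.card ι, fun j => Ψ (e.symm j), fun L hL => ?_⟩
  obtain ⟨t, ht, ⟨et⟩⟩ := hmem L hL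
  obtain ⟨j, t', ht'⟩ := hlift t ht
  haveI := (hV j).1; haveI := (hV j).2.1
  have htq : t' ≫ h j ≫ q = 𝟙 _ := by rw [← Category.assoc, ht', ht]
  obtain ⟨e1⟩ := fibre_res q (h j) F htq ht ht'
  have hinv : PicF.IsInvertible (Pic13.fibreMod k X (h j ≫ q) t' htq (G j)) :=
    Groth.L18.Ample.isInvertible_of_iso (e1 ≪≫ et).symm (hP L hL)
  haveI := noeth q
  haveI : IsLocallyNoetherian (Pic13.prodK k X (h j ≫ q)) :=
    haveI := noeth (h j ≫ q); LocallyOfFiniteType.isLocallyNoetherian (f j)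
  haveI : IsLocallyNoetherian (Pic13.prodK k X q) :=
    LocallyOfFiniteType.isLocallyNoetherian (pullback.snd (X ↘ Spec (CommRingCat.of k)) q)
  have hU : ∀ p, t' p ∈ U j := fun p hp => by
    obtain ⟨x, hx, hxp⟩ := hp
    obtain ⟨x₀, rfl⟩ := exists_of_snd (X := X) (h j ≫ q) t' htq x ⟨p, hxp.symm⟩
    exact hx (mem_lineLocus (h j ≫ q) (Groth.L16.AffineBC.isCoh_pullback _ hF) (hV j).2.2 t' htq hinv x₀)
  let t₂ := IsOpenImmersion.lift (U j).ι t' (by
    rintro _ ⟨p, rfl⟩; rw [Scheme.Opens.range_ι]; exact hU p)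
  obtain ⟨c, hc, hct⟩ := hs j (t₂ (IsLocalRing.closedPoint k))
  let a : ι := ⟨j, c, hc⟩
  let t₃ := IsOpenImmersion.lift (Wc a).ι t₂ (by
    rintro _ ⟨p, rfl⟩
    rw [Scheme.Opens.range_ι, show p = IsLocalRing.closedPoint k from @Subsingleton.elim (PrimeSpectrum k) _ _ _]
    exact hct)
  have ht₃ : t₃ ≫ g a = t' := by
    rw [show t₃ ≫ g a = (t₃ ≫ (Wc a).ι) ≫ (U j).ι from (Category.assoc _ _ _).symm]
    erw [IsOpenImmersion.lift_fac, IsOpenImmersion.lift_fac]
  have htr : t₃ ≫ g a ≫ h j ≫ q = 𝟙 _ := by rw [← Category.assoc, ht₃, htq]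
  obtain ⟨e2⟩ := fibre_res (h j ≫ q) (g a) (G j) htr htq ht₃
  refine ⟨e a, ?_⟩
  simp only [Equiv.symm_apply_apply]
  exact ⟨t₃, htr, ⟨e2 ≪≫ e1 ≪≫ et⟩⟩

/-- If infinitely many powers lie in finitely many families, the module is τ-equivalent to zero. -/
theorem isTauEquivZero_of_powers {L : X.Modules} (hL : PicF.IsInvertible L) {m : ℕ} (Φ : Fin m → Fam k X)
    (h : ∀ a : ℕ, ∃ j, (Φ j).Mem (CohB1.tensorPow L a)) : Pic13.IsTauEquivZero k X L := by
  choose j hj using h
  obtain ⟨a, b, hab, hjab⟩ := Finite.exists_ne_map_eq_of_infinite j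
  wlog hlt : a < b generalizing a b
  · exact this b a hab.symm hjab.symm (lt_of_le_of_ne (not_lt.1 hlt) hab.symm)
  obtain ⟨d, hd, rfl⟩ : ∃ d, 0 < d ∧ b = d + a := ⟨b - a, by omega, by omega⟩
  obtain ⟨ta, hta, ⟨ea⟩⟩ := hj a
  have hb := hj (d + a)
  rw [← hjab] at hb
  obtain ⟨tb, htb, ⟨eb⟩⟩ := hb
  obtain ⟨Q, hQ, ⟨eQ⟩⟩ := Groth.L08.Cube.exists_inverse (Groth.L18.Ample.isInvertible_tensorPow hL a)
  let Ψ := Φ (j a)
  let pr := pullback.fst (X ↘ Spec (CommRingCat.of k)) Ψ.q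
  let M' := CohB1.tensorMod Ψ.M ((Scheme.Modules.pullback pr).obj Q)
  have hval : ∀ (t : Spec (CommRingCat.of k) ⟶ Ψ.T) (ht : t ≫ Ψ.q = 𝟙 _) (N : X.Modules),
      (Pic13.fibreMod k X Ψ.q t ht Ψ.M ≅ N) → Nonempty (Pic13.fibreMod k X Ψ.q t ht M' ≅ CohB1.tensorMod N Q) :=
    fun t ht N e => ⟨(Groth.L29.DC.PullTensor.pullTensor (Pic13.sliceAt k X Ψ.q t ht) Ψ.M _).symm ≪≫
      tensorIso e ((Scheme.Modules.pullbackComp _ pr).app Q ≪≫
        (Scheme.Modules.pullbackCongr (pullback.lift_fst _ _ _)).app Q ≪≫ (Scheme.Modules.pullbackId X).app Q)⟩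
  obtain ⟨va⟩ := hval ta hta _ ea
  obtain ⟨vb⟩ := hval tb htb _ eb
  refine ⟨d, hd, Ψ.T, Ψ.q, Ψ.conn, Ψ.lft, Ψ.qc, M',
    Groth.L18.GenLoc.isInvertible_tensor Ψ.inv (Groth.L18.Ample.isInvertible_pullback pr hQ),
    tb, ta, htb, hta, ⟨vb ≪≫ tensorIso (Groth.L00.Tensor.tensorPowAdd L d a).symm (Iso.refl Q) ≪≫
      tensorAssoc _ _ Q ≪≫ tensorIso (Iso.refl _) eQ ≪≫ tensorUnitRight _⟩, ⟨va ≪≫ eQ⟩⟩

/-- A bounded family of invertible modules lies in finitely many classes modulo algebraic equivalence. -/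
theorem exists_finite_mod_algEquiv {P : X.Modules → Prop} (hP : ∀ L, P L → PicF.IsInvertible L)
    (hb : Pic13.IsBounded k X P) :
    ∃ (q : ℕ) (M : Fin q → X.Modules), ∀ L, P L →
      ∃ (j : Fin q) (N : X.Modules), PicF.IsInvertible N ∧ Pic13.IsAlgEquivZero k X N ∧
        Nonempty (L ≅ CohB1.tensorMod (M j) N) := by
  classical
  obtain ⟨m, Φ, hΦ⟩ := exists_fams hP hb
  let good := {j : Fin m // ∃ L, P L ∧ (Φ j).Mem L}
  have hg : ∀ j : good, ∃ L, P L ∧ (Φ j.1).Mem L := fun j => j.2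
  choose M hMP hMm using hg
  let e := Finite.equivFin good
  refine ⟨Nat.card good, fun j => M (e.symm j), fun L hL => ?_⟩
  obtain ⟨j, hj⟩ := hΦ L hL
  let g : good := ⟨j, L, hL, hj⟩
  obtain ⟨t, ht, ⟨et⟩⟩ := hj
  obtain ⟨t₀, ht₀, ⟨e₀⟩⟩ := hMm g
  obtain ⟨Q, hQ, ⟨eQ⟩⟩ := Groth.L08.Cube.exists_inverse (hP _ (hMP g))
  let Ψ := Φ j
  let pr := pullback.fst (X ↘ Spec (CommRingCat.of k)) Ψ.q
  let M' := CohB1.tensorMod Ψ.M ((Scheme.Modules.pullback pr).obj Q)
  have hval : ∀ (t : Spec (CommRingCat.of k) ⟶ Ψ.T) (ht : t ≫ Ψ.q = 𝟙 _) (N : X.Modules),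
      (Pic13.fibreMod k X Ψ.q t ht Ψ.M ≅ N) → Nonempty (Pic13.fibreMod k X Ψ.q t ht M' ≅ CohB1.tensorMod N Q) :=
    fun t ht N e => ⟨(Groth.L29.DC.PullTensor.pullTensor (Pic13.sliceAt k X Ψ.q t ht) Ψ.M _).symm ≪≫
      tensorIso e ((Scheme.Modules.pullbackComp _ pr).app Q ≪≫
        (Scheme.Modules.pullbackCongr (pullback.lift_fst _ _ _)).app Q ≪≫ (Scheme.Modules.pullbackId X).app Q)⟩
  obtain ⟨v₀⟩ := hval t₀ ht₀ _ e₀
  obtain ⟨v⟩ := hval t ht _ et
  refine ⟨e g, CohB1.tensorMod L Q, Groth.L18.GenLoc.isInvertible_tensor (hP L hL) hQ,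
    ⟨Ψ.T, Ψ.q, Ψ.conn, Ψ.lft, Ψ.qc, M',
      Groth.L18.GenLoc.isInvertible_tensor Ψ.inv (Groth.L18.Ample.isInvertible_pullback pr hQ),
      t, t₀, ht, ht₀, ⟨v⟩, ⟨v₀ ≪≫ eQ⟩⟩, ⟨?_⟩⟩
  simp only [Equiv.symm_apply_apply]
  exact ((tensorAssoc (M g) L Q).symm ≪≫ tensorIso (tensorComm (M g) L) (Iso.refl Q) ≪≫ tensorAssoc L (M g) Q ≪≫
    tensorIso (Iso.refl L) eQ ≪≫ tensorUnitRight L).symm

end Groth.L11.PicFam
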