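import Groth.Agent.L11.NumOrth.Chi
import Groth.Agent.L11.NumOrth.Bounded
import Groth.Agent.L11.NumOrth.PicFam
import Groth.Agent.L03.Euler.Hilb
import Groth.Agent.L03.SurfAdj.Embed
import Groth.Agent.L16.ProjSpace.Dim

/-!
# Numerically trivial modules on projective schemes: boundedness and τ-equivalence
-/

set_option autoImplicit false
set_option backward.isDefEq.respectTransparency false
set_option linter.style.haveILetI false
set_option linter.unusedSectionVars false

universe u

open CategoryTheory CategoryTheory.Limits AlgebraicGeometry TopologicalSpace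

noncomputable section

namespace Groth.L11.NumOrth

open Groth.L16 Groth.L22.Nef Groth.L22.Inter Groth.L03.Euler
open Groth.L00.Tensor (tensorIso tensorAssoc tensorUnitLeft tensorUnitRight tensorComm)

variable (k : Type u) [Field k] {n : ℕ} {X : Scheme.{u}} [X.Over (Spec (CommRingCat.of k))]
  [IsProper (X ↘ Spec (CommRingCat.of k))] (i : X ⟶ CohB1.ProjSpace n k) [IsClosedImmersion i]

include i in
theorem dim_le_ambient : topologicalKrullDim X ≤ (n : WithBot ℕ∞) :=
  (i.isClosedEmbedding.isInducing.topologicalKrullDim_le).trans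
    (Groth.L16.ProjSpace.topologicalKrullDim_eq_of_field (k := k) n).le

/-- The Euler characteristics of all twists are the values of one polynomial. -/
theorem exists_poly_twist {F : X.Modules} (hF : Coh.IsCoh F) :
    ∃ φ : Polynomial ℚ, ∀ j : ℤ, (Curv2.euler k X (Pic13.twistOn k i F j) : ℚ) = φ.eval (j : ℚ) := by
  haveI := Groth.L21.RR.isNoetherian_of_proper (X := X) k
  have hex : ∀ a : ℤ, ∃ P : Polynomial ℚ, ∀ j : ℕ,
      (Curv2.euler k X (Pic13.twistOn k i F (a + j)) : ℚ) = P.eval (j : ℚ) := fun a => by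
    obtain ⟨P, -, hP⟩ := Groth.L03.Euler.exists_isHilbPoly (k := k) (isInvertible_OX i 1)
      (Groth.L22.Reg.isCoh_twistOn i hF a) (d := n)
      (Topology.IsInducing.subtypeVal.topologicalKrullDim_le.trans (dim_le_ambient k i))
    refine ⟨P, fun j => ?_⟩
    obtain ⟨e⟩ := nonempty_pow_OX i j
    obtain ⟨e'⟩ := nonempty_twist_twist i F (show a + (j : ℤ) = a + j from rfl)
    have eA : CohB1.tensorMod (Pic13.twistOn k i F a) (CohB1.tensorPow (OX i 1) j) ≅
        Pic13.twistOn k i (Pic13.twistOn k i F a) (j : ℤ) := tensorIso (Iso.refl _) e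
    rw [← euler_iso (k := k) e', ← euler_iso (k := k) eA]
    exact hP j
  choose P hP using hex
  refine ⟨P 0, fun m => ?_⟩
  have h : P m = (P 0).comp (Polynomial.X + Polynomial.C (m : ℚ)) := by
    refine Groth.L03.Euler.eq_of_eventually_eval_eq m.natAbs fun j hj => ?_
    obtain ⟨l, hl⟩ : ∃ l : ℕ, (l : ℤ) = m + j := ⟨(m + j).toNat, by omega⟩
    rw [← hP m j, ← hl, Polynomial.eval_comp, Polynomial.eval_add, Polynomial.eval_X, Polynomial.eval_C,
      ← zero_add (l : ℤ), hP 0 l]
    congr 1
    exact_mod_cast (hl.trans (add_comm _ _))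
  simpa [h] using hP m 0

variable [IsAlgClosed k] (hi : i ≫ CohB1.ProjSpace.toSpec n k = X ↘ Spec (CommRingCat.of k))

include hi in
/-- Numerically trivial invertible modules form a bounded family. -/
theorem isBounded_NT : Pic13.IsBounded k X (fun L => NT k L) := by
  haveI := Groth.L21.RR.isNoetherian_of_proper (X := X) k
  let O := Coh.structureModule X
  have hO : Coh.IsCoh O := CohClosedPush.isCoh_structure
  obtain ⟨hC, hR, -⟩ := chi_reg_bdd k i hi (n + 1)
  have hd : ∀ {M : X.Modules}, topologicalKrullDim (CohB1.support M) + 1 ≤ ((n + 1 : ℕ) : WithBot ℕ∞) :=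
    dim_succ_iff.2 (Topology.IsInducing.subtypeVal.topologicalKrullDim_le.trans (dim_le_ambient k i))
  obtain ⟨m, hm⟩ := hR O hO hd
  obtain ⟨φ, hφ⟩ := exists_poly_twist k i hO
  obtain ⟨T, q, h1, h2, G, hG, hmem⟩ := Groth.L11.Bounded.isBounded_mRegular i hi m φ
  refine ⟨T, q, h1, h2, G, hG, fun L hL => hmem L ⟨Groth.L16.ProperFinite.isCoh_of_isInvertible hL.1, ?_, fun d => ?_⟩⟩
  · intro p hp
    exact (Groth.L22.Reg.subsingleton_congr_iso (tensorIso (tensorUnitLeft L) (Iso.refl _)) p).1 (hm L hL p hp)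
  · have eB : Pic13.twistOn k i (CohB1.tensorMod O L) d ≅ Pic13.twistOn k i L d :=
      tensorIso (tensorUnitLeft L) (Iso.refl (OX i d))
    rw [Groth.L22.Inter.eulerCharLE_eq k (dim_le_ambient k i), ← hφ d, ← euler_iso (k := k) eB,
      euler_iso (k := k) (twistTensor i O L d)]
    exact_mod_cast hC _ (Groth.L22.Reg.isCoh_twistOn i hO d) hd L hL

include hi in
/-- Numerically trivial modules are τ-equivalent to zero. -/
theorem isTauEquivZero_of_NT {L : X.Modules} (hL : NT k L) : Pic13.IsTauEquivZero k X L := by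
  obtain ⟨m, Φ, hΦ⟩ := Groth.L11.PicFam.exists_fams (fun L (h : NT k L) => h.1) (isBounded_NT k i hi)
  exact Groth.L11.PicFam.isTauEquivZero_of_powers hL.1 Φ fun a => hΦ _ (hL.pow a)

end Groth.L11.NumOrth
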