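import Groth.Agent.L11.NumOrth.Generic
import Groth.Agent.L02.Num.Hodge
import Groth.Agent.L02.Num.Pull
import Groth.Agent.L22.Cyc.FieldExt
import Groth.Agent.L19.SupportPullback
import Groth.Agent.L22.FibreDim
import Groth.Agent.L22.Inter.Fga
import Groth.Agent.S11747
import Groth.Agent.L03.Euler.Drop
import Groth.Agent.L19.LimMod.Zero

/-!
# Orthogonality to a power of an ample class implies numerical triviality
-/

set_option autoImplicit false
set_option backward.isDefEq.respectTransparency false
set_option linter.style.haveILetI false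
set_option linter.unusedSectionVars false

universe u

open CategoryTheory CategoryTheory.Limits AlgebraicGeometry TopologicalSpace

noncomputable section

namespace Groth.L11.NumOrth

open Groth.L22.Inter Groth.L22.Nef Groth.L22.Big Groth.L03.Euler Groth.L16

variable (k : Type u) [Field k] {X : Scheme.{u}} [X.Over (Spec (CommRingCat.of k))]

theorem dim_closure_map {α β : Type*} [TopologicalSpace α] [TopologicalSpace β] {f : α → β}
    (hf : Topology.IsClosedEmbedding f) (a : α) :
    topologicalKrullDim (closure ({f a} : Set β)) = topologicalKrullDim (closure ({a} : Set α)) := by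
  refine Groth.L22.SchemeDim.topologicalKrullDim_eq_of_isEmbedding
    (f := fun x : closure ({a} : Set α) => f x) (hf.isEmbedding.comp Topology.IsEmbedding.subtypeVal) ?_
  rw [← Set.image_singleton, hf.closure_image_eq, Set.image_eq_range]

/-- A maximal point of a closed set above a given point. -/
theorem exists_max_in_closed {S : Set X} (hS : IsClosed S) {z : X} (hz : z ∈ S) :
    ∃ w ∈ S, w ⤳ z ∧ ∀ w' ∈ S, w' ⤳ w → w' = w := by
  let j := (Scheme.IdealSheafData.vanishingIdeal ⟨S, hS⟩).subschemeι
  have hr : Set.range j = S := by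
    rw [Scheme.IdealSheafData.range_subschemeι, Groth.L18.support_vanishingIdeal]; rfl
  obtain ⟨z₁, rfl⟩ : z ∈ Set.range j := by rw [hr]; exact hz
  obtain ⟨η, hη, hmax⟩ := Groth.L22.FibreDim.exists_maximal_specializes z₁
  refine ⟨j η, hr.le ⟨η, rfl⟩, hη.map j.continuous, fun w' hw' h => ?_⟩
  obtain ⟨w₁, rfl⟩ : w' ∈ Set.range j := by rw [hr]; exact hw'
  rw [hmax w₁ (j.isClosedEmbedding.isInducing.specializes_iff.1 h)]

/-- Points over a closed curve lie on curves. -/
theorem dim_closure_over_le (ι : Type u) [LocallyOfFiniteType (X ↘ Spec (CommRingCat.of k))]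
    {y : X} {n : ℕ} (hy : topologicalKrullDim (closure ({y} : Set X)) = (n : WithBot ℕ∞))
    {z : XK k ι X} (hz : proj k ι z ∈ closure ({y} : Set X)) :
    topologicalKrullDim (closure ({z} : Set (XK k ι X))) ≤ (n : WithBot ℕ∞) := by
  have hS : IsClosed (proj (X := X) k ι ⁻¹' closure ({y} : Set X)) :=
    isClosed_closure.preimage (proj k ι).continuous
  obtain ⟨w, hw, hwz, hmax⟩ := exists_max_in_closed hS hz
  let i := (pt y).subschemeι
  let C' := pullback i (proj (X := X) k ι)
  let j : C' ⟶ XK k ι X := pullback.snd _ _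
  have hr : Set.range j = proj (X := X) k ι ⁻¹' closure ({y} : Set X) := by
    rw [Scheme.Pullback.range_snd, range_pt]
  obtain ⟨w₁, hw₁⟩ : w ∈ Set.range j := by rw [hr]; exact hw
  have hpb : IsPullback (pullback.fst i (proj (X := X) k ι))
      (j ≫ pullback.snd (X ↘ Spec (CommRingCat.of k)) (ext k ι)) (i ≫ (X ↘ Spec (CommRingCat.of k))) (ext k ι) :=
    (IsPullback.of_hasPullback i (proj (X := X) k ι)).flip.paste_horiz
      (IsPullback.of_hasPullback (X ↘ Spec (CommRingCat.of k)) (ext k ι)).flip |>.flip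
  have hmax₁ : ∀ v, v ⤳ w₁ → v = w₁ := fun v hv => j.isClosedEmbedding.injective
    ((hmax (j v) (by rw [← hr]; exact Set.mem_range_self v) (hw₁ ▸ hv.map j.continuous)).trans hw₁.symm)
  obtain ⟨m, hm, -⟩ := Groth.L22.SchemeDim.exists_dim_closure_eq_trdeg k X (i (pullback.fst i (proj k ι) w₁))
  have hmn : m ≤ n := by
    have h1 := topologicalKrullDim_set_mono (closure_minimal (Set.singleton_subset_iff.2
      ((range_pt y).le ⟨pullback.fst i (proj k ι) w₁, rfl⟩)) isClosed_closure)
    rw [hm, hy] at h1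
    exact_mod_cast h1
  rw [dim_closure_map i.isClosedEmbedding] at hm
  haveI : LocallyOfFiniteType (i ≫ (X ↘ Spec (CommRingCat.of k))) := inferInstance
  have hd := Groth.L22.Cyc.dim_closure_baseChange k (Kt k ι) (i ≫ (X ↘ Spec (CommRingCat.of k))) _ _
    (pullback.fst i (proj k ι)) hpb hmax₁ hm
  rw [← dim_closure_map j.isClosedEmbedding, hw₁] at hd
  calc topologicalKrullDim (closure ({z} : Set (XK k ι X)))
      ≤ topologicalKrullDim (closure ({w} : Set (XK k ι X))) := topologicalKrullDim_set_mono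
        (closure_minimal (Set.singleton_subset_iff.2 (specializes_iff_mem_closure.1 hwz)) isClosed_closure)
    _ ≤ n := by rw [hd]; exact_mod_cast hmn

variable [IsProper (X ↘ Spec (CommRingCat.of k))]

/-- Two slots commute. -/
theorem altT_swap {r : ℕ} (A B : X.Modules) (L : Fin r → X.Modules) (F : X.Modules) :
    altT k (Fin.cons A (Fin.cons B L)) F = altT k (Fin.cons B (Fin.cons A L)) F := by
  simp only [altT_cons]
  rw [altT_iso k L (Groth.L00.Tensor.tensorAssoc F A B ≪≫ Groth.L00.Tensor.tensorIso (Iso.refl F)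
    (Groth.L00.Tensor.tensorComm A B) ≪≫ (Groth.L00.Tensor.tensorAssoc F B A).symm)]
  ring

theorem altT_swap_inner {r : ℕ} (C A B : X.Modules) (L : Fin r → X.Modules) (F : X.Modules) :
    altT k (Fin.cons C (Fin.cons A (Fin.cons B L))) F = altT k (Fin.cons C (Fin.cons B (Fin.cons A L))) F := by
  rw [altT_cons, altT_cons k C, altT_swap k A B L (CohB1.tensorMod F C), altT_swap k A B L F]

/-- A section turns one slot into its divisor. -/
theorem altT_cons_coker {r : ℕ} {N : X.Modules} (hN : PicF.IsInvertible N) {L : Fin r → X.Modules}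
    (hL : ∀ i, PicF.IsInvertible (L i)) (s : Coh.structureModule X ⟶ N) [Mono s] :
    altT k (Fin.cons N L) (Coh.structureModule X) = altT k L (cokernel s) := by
  haveI := Groth.L21.RR.isNoetherian_of_proper (X := X) k
  have hker : altT k L (kernel s) = 0 := by
    rw [altT, twEuler_of_isZero k hL (isZero_kernel_of_mono s), map_zero]
  have hmap := altT_map k hL CohClosedPush.isCoh_structure (Groth.L18.Ample.isCoh_of_isInvertible hN) s
  rw [altT_cons, altT_iso k L (Groth.L00.Tensor.tensorUnitLeft N)]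
  linarith

/-- Inverting every slot multiplies by a sign. -/
theorem altT_inv {r : ℕ} {L L' : Fin r → X.Modules} (hL : ∀ i, PicF.IsInvertible (L i))
    (hL' : ∀ i, PicF.IsInvertible (L' i))
    (e : ∀ i, Nonempty (CohB1.tensorMod (L i) (L' i) ≅ Coh.structureModule X))
    {F : X.Modules} (hF : Coh.IsCoh F) (hd : topologicalKrullDim (CohB1.support F) ≤ r) :
    altT k L' F = (-1) ^ r * altT k L F := by
  classical
  suffices ∀ S : Finset (Fin r), altT k (S.piecewise L' L) F = (-1) ^ S.card * altT k L F by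
    simpa using this Finset.univ
  intro S
  induction S using Finset.induction_on with
  | empty => simp
  | insert i S hi ih =>
    rw [Finset.piecewise_insert, Finset.card_insert_of_notMem hi, pow_succ]
    let M := S.piecewise L' L
    have hM : ∀ j, PicF.IsInvertible (M j) := fun j => by
      by_cases hj : j ∈ S
      · simp only [M, Finset.piecewise_eq_of_mem _ _ _ hj]; exact hL' j
      · simp only [M, Finset.piecewise_eq_of_notMem _ _ _ hj]; exact hL j
    obtain ⟨ei⟩ := e i
    have h := altT_update_tensor (k := k) hM i (hL i) (hL' i) hF hd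
    rw [altT_update_congr ei, altT_update_unit] at h
    have hu : Function.update M i (L i) = M := by
      rw [show L i = M i from (Finset.piecewise_eq_of_notMem _ _ _ hi).symm, Function.update_eq_self]
    rw [hu] at h
    show altT k (Function.update M i (L' i)) F = _
    linarith

include k in
/-- Sections of a power of an ample module cutting out a closed set. -/
theorem exists_sections {H : X.Modules} (hH : CohB1.IsAmple H) {T : Set X} (hT : IsClosed T) :
    ∃ (m : ℕ) (ι : Type u) (_ : Fintype ι) (s : ι → (Coh.structureModule X ⟶ CohB1.tensorPow H m)),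
      0 < m ∧ (∀ i, ∀ x ∈ T, x ∉ CohB1.genLocus _ (s i)) ∧
      ∀ x ∉ T, ∃ i, x ∈ CohB1.genLocus _ (s i) := by
  haveI := Groth.L21.RR.isNoetherian_of_proper (X := X) k
  choose n t ht htU _ using fun x : (Tᶜ : Set X) =>
    Groth.L18.Ample.exists_affine_genLocus_subset hH ⟨Tᶜ, hT.isOpen_compl⟩ (x := x.1) x.2
  obtain ⟨S, hS⟩ := (NoetherianSpace.isCompact (Tᶜ : Set X)).elim_finite_subcover
    (fun x => (CohB1.genLocus _ (t x) : Set X)) (fun x => (CohB1.genLocus _ (t x)).2)
    fun x hx => Set.mem_iUnion.2 ⟨⟨x, hx⟩, ht ⟨x, hx⟩⟩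
  let m := ∏ x ∈ S, (n x + 1)
  have hm : 0 < m := Finset.prod_pos fun x _ => Nat.succ_pos _
  have key : ∀ x : S, ∃ u : Coh.structureModule X ⟶ CohB1.tensorPow H m,
      CohB1.genLocus _ u = CohB1.genLocus _ (t x) := fun x => by
    obtain ⟨q, hq⟩ : n x.1 + 1 ∣ m := Finset.dvd_prod_of_mem (fun y => n y + 1) x.2
    obtain ⟨q, rfl⟩ : ∃ q', q = q' + 1 := ⟨q - 1, by
      rcases Nat.eq_zero_or_pos q with rfl | h
      · omega
      · omega⟩
    rw [hq]
    refine ⟨Groth.L18.Ample.pw (t x) (q + 1) ≫ (Groth.L00.Tensor.tensorPowMul H (n x.1 + 1) (q + 1)).hom, ?_⟩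
    rw [Groth.L16.genLocus_comp_iso, Groth.L18.Ample.genLocus_pw_succ (Groth.L18.Ample.isInvertible_tensorPow hH.1 _)]
  choose u hu using key
  refine ⟨m, S, inferInstance, u, hm, fun i x hx h => ?_, fun x hx => ?_⟩
  · rw [hu] at h
    exact htU i.1 h hx
  · obtain ⟨i, hi⟩ := Set.mem_iUnion.1 (hS hx)
    obtain ⟨hiS, hxi⟩ := Set.mem_iUnion.1 hi
    exact ⟨⟨i, hiS⟩, by rw [hu]; exact hxi⟩

instance (ι : Type u) : IsProper (XK k ι X ↘ Spec (CommRingCat.of (Kt k ι))) :=
  inferInstanceAs (IsProper (pullback.snd (X ↘ Spec (CommRingCat.of k)) (ext k ι)))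

/-- Intersection numbers after a purely transcendental extension. -/
theorem altT_XK (ι : Type u) {d : ℕ} (hd : topologicalKrullDim X ≤ d) (hdK : topologicalKrullDim (XK k ι X) ≤ d)
    {r : ℕ} {M : Fin r → X.Modules} (hM : ∀ i, PicF.IsInvertible (M i))
    {F : X.Modules} (hF : Coh.IsCoh F) (hr : topologicalKrullDim (CohB1.support F) ≤ r) :
    altT (Kt k ι) (fun i => (Scheme.Modules.pullback (proj (X := X) k ι)).obj (M i))
        ((Scheme.Modules.pullback (proj (X := X) k ι)).obj F) = altT k M F := by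
  haveI := Groth.L21.RR.isNoetherian_of_proper (X := X) k
  haveI := Groth.L21.RR.isNoetherian_of_proper (X := XK k ι X) (Kt k ι)
  have h : ((FGA.intNum (Kt k ι) (XK k ι X) d (fun i => (Scheme.Modules.pullback (proj (X := X) k ι)).obj (M i))
      ((Scheme.Modules.pullback (proj (X := X) k ι)).obj F) : ℤ) : ℚ) = (FGA.intNum k X d M F : ℤ) :=
    congrArg (Int.cast : ℤ → ℚ) (Groth.Agent.S11747.result k (Kt k ι) X d hd M hM F hF hr)
  rw [intNum_eq k hd, intNum_eq (Kt k ι) hdK] at h
  exact mul_left_cancel₀ (pow_ne_zero r (by norm_num)) h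

/-- The induction statement. -/
def OrthProp (s : ℕ) : Prop :=
  ∀ (k : Type u) [Field k] (X : Scheme.{u}) [X.Over (Spec (CommRingCat.of k))]
    [IsProper (X ↘ Spec (CommRingCat.of k))] [IsIntegral X],
    topologicalKrullDim X = ((s + 2 : ℕ) : WithBot ℕ∞) → ∀ (H L : X.Modules), CohB1.IsAmple H →
    PicF.IsInvertible L → altT k (Fin.cons L (fun _ : Fin (s + 1) => H)) (Coh.structureModule X) = 0 →
    0 ≤ altT k (Fin.cons L (Fin.cons L (fun _ : Fin s => H))) (Coh.structureModule X) →
    ∀ y : X, topologicalKrullDim (closure ({y} : Set X)) = (1 : ℕ) →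
      altT k (fun _ : Fin 1 => L) (ClSub.quotMod (pt y)) = 0

theorem orth_zero : OrthProp.{u} 0 := by
  intro k _ X _ _ _ hd H L hH hL horth hsq y hy
  haveI := Groth.L21.RR.isNoetherian_of_proper (X := X) k
  have h1 : (Fin.cons L (fun i : Fin 0 => H) : Fin 1 → X.Modules) = fun _ => L := by
    exact funext fun i => Fin.cases rfl (fun j => j.elim0) i
  rw [h1] at hsq
  have hpos : 0 < ii k H H := ii_ample_pos k hd.le hd hH
  exact Groth.L02.Num.Hodge.deg_eq_zero k hd hH.1 hL hpos horth hsq y hy

/-- One step of the induction, by a generic member through the curve. -/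
theorem orth_succ (t : ℕ) (ih : OrthProp.{u} t) : OrthProp.{u} (t + 1) := by
  intro k _ X _ _ _ hd H L hH hL horth hsq y hy
  haveI := Groth.L21.RR.isNoetherian_of_proper (X := X) k
  obtain ⟨m, ι, _, s, hm, hsT, hsc⟩ := exists_sections k hH (T := closure ({y} : Set X)) isClosed_closure
  let M := CohB1.tensorPow H m
  have hM : PicF.IsInvertible M := Groth.L18.Ample.isInvertible_tensorPow hH.1 m
  let K := Kt k ι
  let g := proj (X := X) k ι
  let pb := Scheme.Modules.pullback g
  haveI : Surjective g := inferInstanceAs (Surjective (pullback.fst (X ↘ Spec (CommRingCat.of k)) (ext k ι)))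
  obtain ⟨z₀, hz₀⟩ := g.surjective y
  haveI : Nonempty (XK k ι X) := ⟨z₀⟩
  haveI := isIntegral_XK k ι (X := X)
  haveI := Groth.L21.RR.isNoetherian_of_proper (X := XK k ι X) K
  haveI : IsAffineHom g := inferInstanceAs (IsAffineHom (pullback.fst (X ↘ Spec (CommRingCat.of k)) (ext k ι)))
  have hdX : topologicalKrullDim (closure ({genericPoint X} : Set X)) = ((t + 1 + 2 : ℕ) : WithBot ℕ∞) := by
    rw [(genericPoint_spec X).def, ← hd]
    exact IsHomeomorph.topologicalKrullDim_eq _ (Homeomorph.Set.univ X).isHomeomorph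
  have hξ : g (genericPoint (XK k ι X)) = genericPoint X := by
    obtain ⟨_, ⟨V, hV, rfl⟩, hzV, -⟩ := X.isBasis_affineOpens.exists_subset_of_mem_open
      (Set.mem_univ (g (genericPoint (XK k ι X)))) isOpen_univ
    haveI : Nonempty V := ⟨⟨_, hzV⟩⟩
    obtain ⟨η, hη, hgη, -, -⟩ := exists_generic_over k ι hV hzV
    rwa [← (Specializes.antisymm ((genericPoint_spec (XK k ι X)).specializes trivial) hη).eq] at hgη
  have hdK : topologicalKrullDim (XK k ι X) = ((t + 1 + 2 : ℕ) : WithBot ℕ∞) := by
    have h := Groth.L22.Cyc.dim_closure_baseChange k K (X ↘ Spec (CommRingCat.of k)) _ _ g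
      (IsPullback.of_hasPullback (X ↘ Spec (CommRingCat.of k)) (ext k ι))
      (z' := genericPoint (XK k ι X)) (fun w hw => (hw.antisymm ((genericPoint_spec (XK k ι X)).specializes trivial)).eq)
      (by rw [hξ]; exact hdX)
    rw [(genericPoint_spec (XK k ι X)).def] at h
    rw [← h]
    exact (IsHomeomorph.topologicalKrullDim_eq _ (Homeomorph.Set.univ (XK k ι X)).isHomeomorph).symm
  -- the member
  let σ := member k s
  have hMK : PicF.IsInvertible (pb.obj M) := Groth.L18.Ample.isInvertible_pullback g hM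
  obtain ⟨j₀, hj₀⟩ := hsc (genericPoint X) fun h => by
    have h1 := topologicalKrullDim_set_mono (closure_minimal (Set.singleton_subset_iff.2 h) isClosed_closure)
    rw [hdX, hy] at h1
    have : t + 1 + 2 ≤ 1 := by exact_mod_cast h1
    omega
  have hση := member_generic k s hM hj₀
  haveI : Mono σ := Groth.L22.Nakai.mono_of_injective (Groth.L18.Ample.isInvertible_structureModule _) σ
    (bijective_stalk_section σ hση).1
  obtain ⟨hD, hDη⟩ := cokernel_facts K (Groth.L18.Ample.isInvertible_structureModule _) hMK σ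
  haveI : Coh.IsQCoh (pb.obj M) := (Groth.L18.Ample.isCoh_of_isInvertible hMK).1
  have hsupp : ∀ z, z ∈ CohB1.support (cokernel σ) ↔ z ∉ CohB1.genLocus _ σ := fun z => by
    rw [← not_iff_not, not_not, Groth.L21.RR.mem_genLocus_iff hMK, notMem_support_cokernel_iff]
    rfl
  have hSc := CohSupport.isClosed_support (cokernel σ) hD.2
  have hd1 : topologicalKrullDim (CohB1.support (cokernel σ)) ≤ ((t + 2 : ℕ) : WithBot ℕ∞) :=
    dim_le_of_generic_notMem hSc hDη (hdK.le.trans (by rfl))
  have hbase : ∀ z, g z ∈ closure ({y} : Set X) → z ∉ CohB1.genLocus _ σ := fun z hz =>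
    member_base k s hM fun i => hsT i _ hz
  have hmaxdim : ∀ w ∈ CohB1.support (cokernel σ), (∀ w' ∈ CohB1.support (cokernel σ), w' ⤳ w → w' = w) →
      topologicalKrullDim (closure ({w} : Set (XK k ι X))) = ((t + 2 : ℕ) : WithBot ℕ∞) := by
    intro w hw hmax
    obtain ⟨n, hn, hn'⟩ := dim_closure_eq_add_one K hMK σ (y := genericPoint (XK k ι X)) (z := w) hση
      (by rw [(genericPoint_spec (XK k ι X)).def]; trivial) ((hsupp w).1 hw)
      (fun w' _ hw' h => hmax w' ((hsupp w').2 hw') h)
    rw [(genericPoint_spec (XK k ι X)).def,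
      IsHomeomorph.topologicalKrullDim_eq _ (Homeomorph.Set.univ (XK k ι X)).isHomeomorph, hdK] at hn'
    have : t + 1 + 2 = n + 1 := by exact_mod_cast hn'
    rw [hn, show n = t + 2 by omega]
  have hoff : ∀ w, topologicalKrullDim (closure ({w} : Set (XK k ι X))) = ((t + 2 : ℕ) : WithBot ℕ∞) →
      ∃ i, g w ∈ CohB1.genLocus M (s i) := fun w hw => hsc _ fun h => by
    have h1 := dim_closure_over_le k ι hy h
    rw [hw] at h1
    have : t + 2 ≤ 1 := by exact_mod_cast h1
    omega
  obtain ⟨η, hηS, -, hηmax⟩ := exists_max_in_closed hSc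
    ((hsupp z₀).2 (hbase z₀ (by rw [hz₀]; exact subset_closure rfl)))
  have hηd := hmaxdim η hηS hηmax
  have hS : CohB1.support (cokernel σ) ⊆ closure {η} := by
    intro z hz
    obtain ⟨w, hw, hwz, hwmax⟩ := exists_max_in_closed hSc hz
    obtain ⟨i, hi⟩ := hoff w (hmaxdim w hw hwmax)
    obtain ⟨i', hi'⟩ := hoff η hηd
    obtain ⟨ζ, hζ, hζw, hζη⟩ := exists_member_generic k s ((hsupp w).1 hw) ((hsupp η).1 hηS) hi hi'
    have e1 := hwmax ζ ((hsupp ζ).2 hζ) hζw
    have e2 := hηmax ζ ((hsupp ζ).2 hζ) hζη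
    exact specializes_iff_mem_closure.1 (by rw [← e2, e1]; exact hwz)
  have hℓ : 0 < (CohSupport.len η (cokernel σ)).toNat := by
    refine Nat.pos_of_ne_zero fun h => ?_
    rcases ENat.toNat_eq_zero.1 h with h | h
    · exact (CohSupport.len_eq_zero_iff η _).1 h hηS
    · exact CohSupport.len_ne_top hD (fun z hz hzx => eq_of_specializes_top hSc hd1 hηd hz hzx) h
  -- the reduced member
  haveI := isIntegral_pt η
  let Y := (pt η).subscheme
  let i := (pt η).subschemeι
  letI : Y.Over (Spec (CommRingCat.of K)) := ⟨i ≫ (XK k ι X ↘ Spec (CommRingCat.of K))⟩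
  haveI : IsProper (Y ↘ Spec (CommRingCat.of K)) :=
    inferInstanceAs (IsProper (i ≫ (XK k ι X ↘ Spec (CommRingCat.of K))))
  haveI := Groth.L21.RR.isNoetherian_of_proper (X := Y) K
  have hdY : topologicalKrullDim Y = ((t + 2 : ℕ) : WithBot ℕ∞) := by
    rw [← dim_closure_image i, genericPoint_pt, hηd]
  have hLK := Groth.L18.Ample.isInvertible_pullback g hL
  have hHK := Groth.L18.Ample.isAmple_pullback_of_isAffineHom g hH
  have hRinv : ∀ {r : ℕ} (R : Fin r → X.Modules), (∀ l, PicF.IsInvertible (R l)) →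
      ∀ l, PicF.IsInvertible (pb.obj (R l)) := fun R h l => Groth.L18.Ample.isInvertible_pullback g (h l)
  have key : ∀ R : Fin (t + 2) → X.Modules, (∀ l, PicF.IsInvertible (R l)) →
      ((CohSupport.len η (cokernel σ)).toNat : ℚ) *
        altT K (fun l => (Scheme.Modules.pullback i).obj (pb.obj (R l))) (Coh.structureModule Y) =
      m * altT k (Fin.cons H R) (Coh.structureModule X) := by
    intro R hR
    have hMR : ∀ l, PicF.IsInvertible ((Fin.cons M R : Fin (t + 1 + 2) → X.Modules) l) :=
      Fin.cases (by simpa using hM) fun l => by simpa using hR l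
    have h1 := altT_push_eq K i rfl hdY (L := fun l => pb.obj (R l)) (hRinv R hR)
    rw [genericPoint_pt] at h1
    rw [h1, ← altT_eq_len K (hRinv R hR) hηd hD hS, ← altT_cons_coker K hMK (hRinv R hR) σ,
      ← altT_pow k hR hH.1 CohClosedPush.isCoh_structure
        (by rw [Groth.L22.Nakai.dim_support_structure, hd]) m]
    have h2 := altT_XK k ι hd.le hdK.le (M := (Fin.cons M R : Fin (t + 1 + 2) → X.Modules)) hMR
      CohClosedPush.isCoh_structure (by rw [Groth.L22.Nakai.dim_support_structure, hd])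
    rw [altT_iso K _ (Groth.L29.LocFree.pullbackUnitIso g)] at h2
    rw [← h2]
    congr 1
    funext l
    exact Fin.cases rfl (fun _ => rfl) l
  have hyi : ∀ (z : XK k ι X), z ∈ closure ({η} : Set (XK k ι X)) →
      topologicalKrullDim (closure ({z} : Set (XK k ι X))) = (1 : ℕ) →
      altT K (fun _ : Fin 1 => pb.obj L) (ClSub.quotMod (pt z)) = 0 := by
    have hLY := Groth.L18.Ample.isInvertible_pullback i hLK
    have hHY := Groth.L18.Ample.isAmple_pullback_of_isAffineHom i hHK
    have hcons : ∀ {r : ℕ} (A : X.Modules) (R : Fin r → X.Modules),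
        (fun l => (Scheme.Modules.pullback i).obj (pb.obj ((Fin.cons A R : Fin (r + 1) → X.Modules) l))) =
          Fin.cons ((Scheme.Modules.pullback i).obj (pb.obj A))
            (fun l => (Scheme.Modules.pullback i).obj (pb.obj (R l))) := fun A R =>
      funext fun l => Fin.cases rfl (fun _ => rfl) l
    have hconst : ∀ n : ℕ, (Fin.cons H (fun _ : Fin n => H) : Fin (n + 1) → X.Modules) = fun _ => H :=
      fun n => funext fun l => Fin.cases rfl (fun _ => rfl) l
    have h1 : altT K (Fin.cons ((Scheme.Modules.pullback i).obj (pb.obj L))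
        (fun _ : Fin (t + 1) => (Scheme.Modules.pullback i).obj (pb.obj H))) (Coh.structureModule Y) = 0 := by
      have h := key (Fin.cons L fun _ : Fin (t + 1) => H)
        (Fin.cases (by simpa using hL) fun _ => by simpa using hH.1)
      rw [hcons, altT_swap, hconst, horth, mul_zero] at h
      exact (mul_eq_zero.1 h).resolve_left (by exact_mod_cast hℓ.ne')
    have h2 : 0 ≤ altT K (Fin.cons ((Scheme.Modules.pullback i).obj (pb.obj L))
        (Fin.cons ((Scheme.Modules.pullback i).obj (pb.obj L))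
        (fun _ : Fin t => (Scheme.Modules.pullback i).obj (pb.obj H)))) (Coh.structureModule Y) := by
      have h := key (Fin.cons L (Fin.cons L fun _ : Fin t => H))
        (Fin.cases (by simpa using hL) (Fin.cases (by simpa using hL) fun _ => by simpa using hH.1))
      rw [hcons, hcons, altT_swap k H L, altT_swap_inner k L H L, hconst] at h
      exact nonneg_of_mul_nonneg_right (h.symm ▸ mul_nonneg (Nat.cast_nonneg _) hsq) (by exact_mod_cast hℓ)
    intro z hz hzd
    obtain ⟨z₁, rfl⟩ : z ∈ Set.range i := by rw [range_pt]; exact hz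
    rw [dim_closure_map i.isClosedEmbedding] at hzd
    have h3 := ih K Y hdY _ _ hHY hLY h1 h2 z₁ hzd
    haveI := isIntegral_pt z₁
    let e := (pt z₁).subschemeι
    letI : (pt z₁).subscheme.Over (Spec (CommRingCat.of K)) := ⟨e ≫ (Y ↘ Spec (CommRingCat.of K))⟩
    haveI : IsProper ((pt z₁).subscheme ↘ Spec (CommRingCat.of K)) :=
      inferInstanceAs (IsProper (e ≫ (Y ↘ Spec (CommRingCat.of K))))
    have hdz : topologicalKrullDim (pt z₁).subscheme = (1 : ℕ) := by
      rw [← dim_closure_image e, genericPoint_pt, hzd]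
    have h4 := altT_push_eq K e rfl hdz (L := fun _ : Fin 1 => (Scheme.Modules.pullback i).obj (pb.obj L))
      fun _ => hLY
    have h5 := altT_push_eq K (e ≫ i) (Category.assoc _ _ _) hdz (L := fun _ : Fin 1 => pb.obj L) fun _ => hLK
    rw [genericPoint_pt, h3] at h4
    rw [Scheme.Hom.comp_apply, genericPoint_pt] at h5
    rw [← h5, ← h4]
    exact altT_congr K (fun _ => ⟨((Scheme.Modules.pullbackComp e i).app (pb.obj L)).symm⟩) _
  -- descend
  obtain ⟨hF, hFs, -⟩ := pt_facts y
  have hFd : topologicalKrullDim (CohB1.support (ClSub.quotMod (pt y))) ≤ (1 : ℕ) :=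
    (topologicalKrullDim_set_mono hFs).trans hy.le
  haveI : Coh.IsQCoh (ClSub.quotMod (pt y)) := hF.1
  have hbc := altT_XK k ι hd.le hdK.le (M := fun _ : Fin 1 => L) (fun _ => hL) hF hFd
  rw [← hbc]
  let F' := pb.obj (ClSub.quotMod (pt y))
  have hF' : Coh.IsCoh F' := Groth.L19.LimMod.isCoh_pullback' g hF
  have hTs : CohB1.support F' ⊆ g ⁻¹' closure {y} := by
    rw [Groth.L19.SupportPullback.support_pullback g _ hF.2]
    exact Set.preimage_mono hFs
  have hT' : IsClosed (g ⁻¹' closure ({y} : Set X)) := isClosed_closure.preimage g.continuous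
  have hT'd : topologicalKrullDim (CohB1.support F') ≤ (1 : ℕ) := by
    by_contra hne
    obtain ⟨w, hw, hwd⟩ := exists_point_dim_closure_ge (CohSupport.isClosed_support F' hF'.2) (e := 2) (by
      refine le_of_not_gt fun h => hne ?_
      have h' := Groth.L22.Inter.add_one_le_of_lt h
      generalize topologicalKrullDim (CohB1.support F') = q at h' ⊢
      induction q using WithBot.recBotCoe with
      | bot => exact bot_le
      | coe q =>
        rw [show ((2 : ℕ) : WithBot ℕ∞) = ((1 : ℕ∞) + 1 : ℕ∞) from rfl] at h'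
        exact_mod_cast (ENat.add_le_add_iff_right (by simp)).1 (WithBot.coe_le_coe.1 h'))
    have h2 : (2 : ℕ) ≤ 1 := by exact_mod_cast hwd.trans (dim_closure_over_le k ι hy (hTs hw))
    omega
  have hTc := CohSupport.isClosed_support F' hF'.2
  rw [altT_eq_sum K (fun _ => hLK) hTc hT'd (finite_top hTc hT'd).toFinset (fun z => Set.Finite.mem_toFinset _)
    (fun z => ClSub.quotMod (pt z)) (fun z _ => pt_facts z) hF' subset_rfl]
  refine Finset.sum_eq_zero fun z hz => ?_
  obtain ⟨hzT, hzd⟩ := (Set.Finite.mem_toFinset _).1 hz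
  rw [hyi z (hS ((hsupp z).2 (hbase z (hTs hzT)))) hzd, mul_zero]

theorem orth : ∀ s : ℕ, OrthProp.{u} s
  | 0 => orth_zero
  | t + 1 => orth_succ t (orth t)

end Groth.L11.NumOrth
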