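import Groth.Agent.L11.NumOrth.Uniform

/-!
# The Euler characteristic is invariant under numerically trivial twists; uniform regularity
-/

set_option autoImplicit false
set_option backward.isDefEq.respectTransparency false
set_option linter.style.haveILetI false
set_option linter.unusedSectionVars false

universe u

open CategoryTheory CategoryTheory.Limits AlgebraicGeometry TopologicalSpace

noncomputable section

namespace Groth.L11.NumOrth

open Groth.L16 Groth.L22.Nef Groth.L22.Inter Groth.L03.Euler Groth.L22.Big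
open Groth.L00.Tensor (tensorMap tensorIso tensorAssoc tensorComm tensorUnitRight tensorUnitLeft)

variable (k : Type u) [Field k] [IsAlgClosed k] {n : ℕ} {X : Scheme.{u}} [X.Over (Spec (CommRingCat.of k))]
  [IsProper (X ↘ Spec (CommRingCat.of k))] (i : X ⟶ CohB1.ProjSpace n k) [IsClosedImmersion i]

theorem isZero_of_dim {M : X.Modules}
    (h : topologicalKrullDim (CohB1.support M) + 1 ≤ ((0 : ℕ) : WithBot ℕ∞)) : IsZero M :=
  (IsZero.iff_id_eq_zero M).2 ((Groth.L21.Mod.eq_zero_iff_stalk (𝟙 M)).2 fun x =>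
    (AddCommGrpCat.isZero_iff_subsingleton.2 (not_not.1 (show x ∉ {y | ¬ Subsingleton (M.presheaf.stalk y)} from
      fun hx => (Set.eq_empty_iff_forall_notMem.1 (eq_empty_of_dim h) x) hx))).eq_of_src _ _)

attribute [local irreducible] Curv2.euler

theorem isZero_tensor {M : X.Modules} (h : IsZero M) (L : X.Modules) : IsZero (CohB1.tensorMod M L) :=
  (Groth.L00.Tensor.tensorRightF L).map_isZero h

theorem euler_of_isZero {M : X.Modules} (h : IsZero M) : Curv2.euler k X M = 0 := by
  rw [euler_eq_sum (k := k) (N := 0) (fun q _ => subsingleton_HH_of_isZero h q)]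
  simp

theorem chi_zero : Chi (X := X) k 0 := fun F _ hd L _ => by
  rw [euler_of_isZero k (isZero_of_dim hd),
    euler_of_isZero k (isZero_tensor (isZero_of_dim hd) L)]

theorem bdd_zero : Bdd k i 0 := fun F _ hd j => ⟨0, fun L _ => by
  haveI := subsingleton_HH_of_isZero (X := X) (M := Pic13.twistOn k i (CohB1.tensorMod F L) j)
    ((Groth.L00.Tensor.tensorRightF (OX i j)).map_isZero
      ((Groth.L00.Tensor.tensorRightF L).map_isZero (isZero_of_dim hd))) 0
  rw [h0_def, Module.finrank_zero_of_subsingleton]⟩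

theorem reg_zero : Reg k i 0 := fun F _ hd => ⟨0, fun L _ q _ =>
  subsingleton_HH_of_isZero ((Groth.L00.Tensor.tensorRightF (OX i _)).map_isZero
    ((Groth.L00.Tensor.tensorRightF L).map_isZero (isZero_of_dim hd))) q⟩

/-- The defect of invariance. -/
def D (L M : X.Modules) : ℤ := Curv2.euler k X (CohB1.tensorMod M L) - Curv2.euler k X M

theorem D_def (L M : X.Modules) :
    D k L M = Curv2.euler k X (CohB1.tensorMod M L) - Curv2.euler k X M := rfl

attribute [irreducible] D

theorem D_iso (L : X.Modules) {M N : X.Modules} (e : M ≅ N) : D k L M = D k L N := by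
  rw [D_def, D_def, euler_iso e, euler_iso (tensorIso e (Iso.refl L))]

theorem D_add {L : X.Modules} (hL : PicF.IsInvertible L) {S : ShortComplex X.Modules} (hS : S.ShortExact)
    (h₁ : Coh.IsCoh S.X₁) (h₂ : Coh.IsCoh S.X₂) (h₃ : Coh.IsCoh S.X₃) :
    D k L S.X₂ = D k L S.X₁ + D k L S.X₃ := by
  haveI := Groth.L21.RR.isNoetherian_of_proper (X := X) k
  have e₁ := euler_add (k := k) hS h₁ h₂ h₃
  have e₂ : Curv2.euler k X (CohB1.tensorMod S.X₂ L) =
      Curv2.euler k X (CohB1.tensorMod S.X₁ L) + Curv2.euler k X (CohB1.tensorMod S.X₃ L) :=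
    euler_add (k := k) (shortExact_tensor hL hS) (isCoh_tensor hL h₁) (isCoh_tensor hL h₂) (isCoh_tensor hL h₃)
  rw [D_def, D_def, D_def, e₁, e₂]; ring

theorem D_zero {d : ℕ} (hC : Chi (X := X) k d) {L : X.Modules} (hL : NT k L) {M : X.Modules} (hM : Coh.IsCoh M)
    (hd : topologicalKrullDim (CohB1.support M) + 1 ≤ (d : WithBot ℕ∞)) : D k L M = 0 := by
  rw [D_def, hC M hM hd L hL, sub_self]

/-- A map bijective at the generic point of the support does not change the defect. -/
theorem D_eq_of_map {d : ℕ} (hC : Chi (X := X) k d) {L : X.Modules} (hL : NT k L) {A B : X.Modules}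
    (hA : Coh.IsCoh A) (hB : Coh.IsCoh B) (μ : A ⟶ B) {y : X} (hsA : CohB1.support A ⊆ closure {y})
    (hsB : CohB1.support B ⊆ closure {y}) (hy : topologicalKrullDim (closure ({y} : Set X)) ≤ (d : WithBot ℕ∞))
    (hμ : Function.Bijective ((Groth.L00.Stk.F X y).map μ)) : D k L B = D k L A := by
  haveI := Groth.L21.RR.isNoetherian_of_proper (X := X) k
  haveI := hA.1
  haveI := hB.1
  obtain ⟨hK, hQ⟩ := CohKernel.isCoh_kernel_cokernel hA hB μ
  have hI : Coh.IsCoh (Abelian.image μ) := Groth.L16.CohSupport.isCoh_image hA μ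
  have key : ∀ {M : X.Modules}, Coh.IsCoh M → CohB1.support M ⊆ closure {y} → y ∉ CohB1.support M →
      D k L M = 0 := fun {M} hM hs hyM => by
    refine D_zero k hC hL hM ((Groth.L03.Euler.topologicalKrullDim_add_one_le
      (CohSupport.isClosed_support _ hM.2) (isIrreducible_singleton.closure) hs fun e => hyM ?_).trans hy)
    rw [e]; exact subset_closure rfl
  have e₁ : D k L A = D k L (kernel μ) + D k L (Abelian.image μ) :=
    D_add k hL.1 (Groth.L16.Devissage.shortExact_kernel_image μ) hK hA hI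
  have e₂ : D k L B = D k L (Abelian.image μ) + D k L (cokernel μ) :=
    D_add k hL.1 (Groth.L16.Devissage.shortExact_image_cokernel μ) hI hB hQ
  rw [key hK ((Groth.L21.Mod.support_mono (kernel.ι μ)).trans hsA) (notMem_support_kernel μ hμ.1)] at e₁
  rw [key hQ ((Groth.L21.Mod.support_epi (cokernel.π μ)).trans hsB)
    ((notMem_support_cokernel_iff μ).2 hμ.2)] at e₂
  omega

/-- The defect is invariant under twists. -/
theorem D_twist {d : ℕ} (hC : Chi (X := X) k d) {L : X.Modules} (hL : NT k L) {M : X.Modules} (hM : Coh.IsCoh M)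
    (hd : topologicalKrullDim (CohB1.support M) ≤ (d : WithBot ℕ∞)) (j : ℤ) :
    D k L (Pic13.twistOn k i M j) = D k L M := by
  haveI := Groth.L21.RR.isNoetherian_of_proper (X := X) k
  obtain ⟨G, f, g, hfg, hS, hG, hGd⟩ := exists_hyperplane i hM hd
  have step : ∀ a : ℤ, D k L (Pic13.twistOn k i M a) = D k L (Pic13.twistOn k i M (a - 1)) := by
    intro a
    obtain ⟨f₂, g₂, h₂, hS₂⟩ := exists_seq_twist k i hS a
    have hc := Groth.L22.Reg.isCoh_twistOn i hG a
    have h0 : D k L (Pic13.twistOn k i G a) = 0 := D_zero k hC hL hc (by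
      rw [show CohB1.support (Pic13.twistOn k i G a) = CohB1.support G from
        support_tensor (isInvertible_OX i a) G]
      exact hGd)
    have := D_add (S := ShortComplex.mk f₂ g₂ h₂) k hL.1 hS₂ (Groth.L22.Reg.isCoh_twistOn i hM _)
      (Groth.L22.Reg.isCoh_twistOn i hM _) hc
    rw [h0, add_zero] at this
    exact this
  have hconst : ∀ a : ℤ, D k L (Pic13.twistOn k i M a) = D k L (Pic13.twistOn k i M 0) := by
    intro a
    induction a with
    | zero => rfl
    | succ a ih => rw [step, add_sub_cancel_right, ih]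
    | pred a ih => rw [← ih, step (-(a : ℤ))]
  obtain ⟨e⟩ := nonempty_twist_zero i M
  rw [hconst, D_iso k L e]

variable (hi : i ≫ CohB1.ProjSpace.toSpec n k = X ↘ Spec (CommRingCat.of k))

include i in
/-- The defect is invariant under numerically trivial twists. -/
theorem D_tensor {d : ℕ} (hC : Chi (X := X) k d) {L L' : X.Modules} (hL : NT k L) (hL' : NT k L') {M : X.Modules}
    (hM : Coh.IsCoh M) (hd : topologicalKrullDim (CohB1.support M) ≤ (d : WithBot ℕ∞)) :
    D k L (CohB1.tensorMod M L') = D k L M := by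
  haveI := Groth.L21.RR.isNoetherian_of_proper (X := X) k
  refine Devissage.devissage_ideals
    (fun M : X.Modules => topologicalKrullDim (CohB1.support M) ≤ (d : WithBot ℕ∞) →
      D k L (CohB1.tensorMod M L') = D k L M) ?_ ?_ ?_ ?_ hM hd
  · rintro A B ⟨e⟩ hA hB
    rw [D_iso k L (tensorIso e.symm (Iso.refl L')), D_iso k L e.symm]
    exact hA ((topologicalKrullDim_set_mono (Groth.L21.Mod.support_mono e.hom)).trans hB)
  · intro A hA _
    have hA' : IsZero (CohB1.tensorMod A L') := (Groth.L00.Tensor.tensorRightF L').map_isZero hA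
    rw [D_def, D_def, euler_of_isZero k hA, euler_of_isZero k hA',
      euler_of_isZero k (isZero_tensor hA L),
      euler_of_isZero k (isZero_tensor hA' L)]
  · intro S hS c₁ c₂ c₃ h₁ h₃ h₂
    obtain ⟨s1, s3⟩ := Devissage.support_union hS
    have := D_add k hL.1 (shortExact_tensor hL'.1 hS) (isCoh_tensor hL'.1 c₁) (isCoh_tensor hL'.1 c₂)
      (isCoh_tensor hL'.1 c₃)
    rw [D_add k hL.1 hS c₁ c₂ c₃, ← h₁ ((topologicalKrullDim_set_mono s1).trans h₂),
      ← h₃ ((topologicalKrullDim_set_mono s3).trans h₂)]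
    exact this
  · intro Z z hz hZ I ι hι hI hId
    haveI := hz; haveI := hZ; haveI := hι
    haveI : IsLocallyNoetherian Z := LocallyOfFiniteType.isLocallyNoetherian z
    haveI : (Coh.push z).IsRightAdjoint := (Scheme.Modules.pullbackPushforwardAdjunction z).isRightAdjoint
    let O := (Coh.push z).obj (Coh.structureModule Z)
    have hO : Coh.IsCoh O := CohClosedPush.isCoh_push z CohClosedPush.isCoh_structure
    let a : (Coh.push z).obj I ⟶ O := (Coh.push z).map ι
    haveI : Mono a := inferInstance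
    by_cases hη : z (genericPoint Z) ∈ CohB1.support ((Coh.push z).obj I)
    swap
    · have h0' := isZero_of_mono_push z a hη
      have h0'' : IsZero (CohB1.tensorMod ((Coh.push z).obj I) L') :=
        (Groth.L00.Tensor.tensorRightF L').map_isZero h0'
      rw [D_def, D_def, euler_of_isZero k h0', euler_of_isZero k h0'',
        euler_of_isZero k (isZero_tensor h0' L),
        euler_of_isZero k (isZero_tensor h0'' L)]
    have hN : Coh.IsCoh ((Coh.push z).obj I) := by
      haveI : Coh.IsQCoh ((Coh.push z).obj I) := Groth.L16.QcqsPush.isQCoh_push I z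
      exact Groth.L16.Rees.RelVanish.isCoh_of_mono a hO
    generalize hy : z (genericPoint Z) = y at hη
    have hsub : CohB1.support ((Coh.push z).obj I) ⊆ closure {y} := hy ▸
      ((CohClosedPush.support_push_subset z _).trans (range_eq_closure z).le)
    have hyd : topologicalKrullDim (closure ({y} : Set X)) ≤ (d : WithBot ℕ∞) :=
      (topologicalKrullDim_set_mono (closure_minimal (Set.singleton_subset_iff.2 hη)
        (CohSupport.isClosed_support _ hN.2))).trans hId
    obtain ⟨n₀, -, hn₀⟩ := Groth.L18.Ample.exists_forall_isAmple_gg (isAmple_OX_one i) hL'.1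
    let P := CohB1.tensorPow (OX i 1) n₀
    let E := CohB1.tensorMod P L'
    have hEi : PicF.IsInvertible E := (hn₀ n₀ le_rfl).1.1
    obtain ⟨s, hs⟩ := Groth.L18.Ample.exists_genLocus_mem_of_gg hEi (hn₀ n₀ le_rfl).2 y
    have hbij := bijective_mulSection ((Coh.push z).obj I) s hs
    have h1 := D_eq_of_map k hC hL hN (isCoh_tensor hEi hN) (mulSection ((Coh.push z).obj I) s) hsub
      ((support_tensor hEi _).le.trans hsub) hyd hbij
    obtain ⟨eP⟩ : Nonempty (P ≅ OX i (n₀ : ℤ)) := nonempty_pow_OX i n₀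
    have e2 : CohB1.tensorMod ((Coh.push z).obj I) E ≅
        Pic13.twistOn k i (CohB1.tensorMod ((Coh.push z).obj I) L') n₀ :=
      tensorIso (Iso.refl _) (tensorComm P L' ≪≫ tensorIso (Iso.refl L') eP) ≪≫
        (tensorAssoc _ L' _).symm
    rw [D_iso k L e2, D_twist k i hC hL (isCoh_tensor hL'.1 hN)
      ((topologicalKrullDim_set_mono (support_tensor hL'.1 _).le).trans hId)] at h1
    exact h1

theorem D_unit {M : X.Modules} : D k (Coh.structureModule X) M = 0 := by
  rw [D_def, euler_iso (tensorUnitRight M), sub_self]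

include i in
theorem D_mul {d : ℕ} (hC : Chi (X := X) k d) {L L' : X.Modules} (hL : NT k L) (hL' : NT k L') {M : X.Modules}
    (hM : Coh.IsCoh M) (hd : topologicalKrullDim (CohB1.support M) ≤ (d : WithBot ℕ∞)) :
    D k (CohB1.tensorMod L' L) M = D k L' M + D k L M := by
  have h := D_tensor k i hC hL hL' hM hd
  rw [D_def, D_def] at h
  rw [D_def, D_def, D_def, euler_iso (tensorAssoc M L' L).symm]
  linarith

include hi in
/-- The Euler characteristic at a high twist is at most the sections. -/
theorem euler_eq_h0_sub {F G : X.Modules} (hF : Coh.IsCoh F) (hG : Coh.IsCoh G)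
    {f : Pic13.twistOn k i F (-1) ⟶ F} {g : F ⟶ G} {h : f ≫ g = 0}
    (hS : (ShortComplex.mk f g h).ShortExact) {m : ℤ} (hGm : Pic13.IsMRegular k i G m) :
    Curv2.euler k X (Pic13.twistOn k i F (m - 1)) = (h0 k (Pic13.twistOn k i F (m - 1)) : ℤ) -
      (Module.finrank k (Coh.HH X (Pic13.twistOn k i F (m - 1)) 1) : ℤ) := by
  obtain ⟨h2, -⟩ := Groth.Agent.S12112.result k n X i hi F G hF hG f g h hS m hGm
  rw [euler_eq_sum (k := k) (N := 2) (fun q hq => h2 q (m - 1) hq (by omega)), h0_def,
    Finset.sum_range_succ, Finset.sum_range_one]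
  ring

include hi in
/-- One step of the induction. -/
theorem chi_reg_succ {d : ℕ} (hB : Bdd k i (d + 1)) (hR : Reg k i d) (hC : Chi (X := X) k d) :
    Chi (X := X) k (d + 1) ∧ Reg k i (d + 1) := by
  haveI := Groth.L21.RR.isNoetherian_of_proper (X := X) k
  have main : ∀ F : X.Modules, Coh.IsCoh F →
      topologicalKrullDim (CohB1.support F) + 1 ≤ ((d + 1 : ℕ) : WithBot ℕ∞) →
      (∀ L, NT k L → D k L F = 0) ∧ ∃ m : ℤ, ∀ L, NT k L → Pic13.IsMRegular k i (CohB1.tensorMod F L) m := by
    intro F hF hd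
    have hd' := dim_succ_iff.1 hd
    obtain ⟨G, f, g, hfg, hS, hG, hGd⟩ := exists_hyperplane i hF hd'
    obtain ⟨m, hm⟩ := hR G hG hGd
    obtain ⟨B, hB'⟩ := hB F hF hd (m - 1)
    set C : ℤ := Curv2.euler k X (Pic13.twistOn k i F (m - 1)) with hCdef
    have hkey : ∀ L, NT k L → C + D k L F =
        (h0 k (Pic13.twistOn k i (CohB1.tensorMod F L) (m - 1)) : ℤ) -
          (Module.finrank k (Coh.HH X (Pic13.twistOn k i (CohB1.tensorMod F L) (m - 1)) 1) : ℤ) := by
      intro L hL
      obtain ⟨f', g', h', hS'⟩ := exists_seq_tensor k i hS hL.1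
      have h1 := euler_eq_h0_sub k i hi (isCoh_tensor hL.1 hF) (isCoh_tensor hL.1 hG) hS' (hm L hL)
      rw [euler_iso (twistTensor i F L (m - 1))] at h1
      have h2 := D_twist k i hC hL hF hd' (m - 1)
      rw [D_def] at h2
      linarith
    have hle : ∀ L, NT k L → D k L F ≤ (B : ℤ) - C := by
      intro L hL
      have h1 := hkey L hL
      have h2 : (h0 k (Pic13.twistOn k i (CohB1.tensorMod F L) (m - 1)) : ℤ) ≤ B := by
        exact_mod_cast hB' L hL
      omega
    have hpow : ∀ L, NT k L → ∀ q : ℕ, D k (CohB1.tensorPow L q) F = q * D k L F := by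
      intro L hL q
      induction q with
      | zero => rw [Nat.cast_zero, zero_mul]; exact D_unit k
      | succ q ih =>
        rw [show CohB1.tensorPow L (q + 1) = CohB1.tensorMod (CohB1.tensorPow L q) L from rfl,
          D_mul k i hC hL (hL.pow q) hF hd', ih]
        push_cast; ring
    have hnp : ∀ L, NT k L → D k L F ≤ 0 := by
      intro L hL
      by_contra hpos
      have h1 := hle _ (hL.pow (((B : ℤ) - C).toNat + 1))
      rw [hpow L hL] at h1
      have h2 : ((((B : ℤ) - C).toNat + 1 : ℕ) : ℤ) * 1 ≤ ((((B : ℤ) - C).toNat + 1 : ℕ) : ℤ) * D k L F :=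
        mul_le_mul_of_nonneg_left (by omega) (by positivity)
      push_cast at h1 h2
      omega
    have hzero : ∀ L, NT k L → D k L F = 0 := by
      intro L hL
      refine le_antisymm (hnp L hL) ?_
      obtain ⟨Q, hQ, ⟨e⟩⟩ := hL.exists_inverse
      have h1 := D_mul k i hC hQ hL hF hd'
      have h2 : D k (CohB1.tensorMod L Q) F = 0 := by
        rw [D_def, euler_iso (tensorIso (Iso.refl F) e ≪≫ tensorUnitRight F), sub_self]
      have h3 := hnp Q hQ
      omega
    refine ⟨hzero, m + ((B : ℤ) - C).toNat, fun L hL => ?_⟩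
    obtain ⟨f', g', h', hS'⟩ := exists_seq_tensor k i hS hL.1
    obtain ⟨-, -, -, hr⟩ := Groth.Agent.S12112.result k n X i hi _ _ (isCoh_tensor hL.1 hF)
      (isCoh_tensor hL.1 hG) f' g' h' hS' m (hm L hL)
    refine (Groth.L22.Reg.regular_push_iff i hi (isCoh_tensor hL.1 hF)).2
      (((Groth.L22.Reg.regular_push_iff i hi (isCoh_tensor hL.1 hF)).1 hr).of_le ?_)
    have h1 := hkey L hL
    rw [hzero L hL, add_zero] at h1
    have h2 : (h0 k (Pic13.twistOn k i (CohB1.tensorMod F L) (m - 1)) : ℤ) ≤ B := by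
      exact_mod_cast hB' L hL
    omega
  refine ⟨fun F hF hd L hL => ?_, fun F hF hd => (main F hF hd).2⟩
  have := (main F hF hd).1 L hL
  rw [D_def] at this
  linarith

include hi in
/-- All three statements in every dimension. -/
theorem chi_reg_bdd : ∀ d : ℕ, Chi (X := X) k d ∧ Reg k i d ∧ Bdd k i d
  | 0 => ⟨chi_zero k, reg_zero k i, bdd_zero k i⟩
  | d + 1 => by
    obtain ⟨hC, hR, hB⟩ := chi_reg_bdd d
    obtain ⟨h1, h2⟩ := chi_reg_succ k i hi (bdd_succ k i hB) hR hC
    exact ⟨h1, h2, bdd_succ k i hB⟩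

end Groth.L11.NumOrth
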