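import Mathlib.RingTheory.TensorProduct.MvPolynomial
import Mathlib.RingTheory.Localization.FractionRing
import Mathlib.RingTheory.Flat.Basic
import Mathlib.LinearAlgebra.TensorProduct.Basic
import Mathlib.RingTheory.Ideal.Maps
import Mathlib.LinearAlgebra.Basis.VectorSpace
import Mathlib.Tactic.LinearCombination

/-!
# A generic linear combination over a purely transcendental extension

For a domain `A` over a field `k` and `f : ι → A`, the element `∑ f i ⊗ tᵢ` of `A ⊗ k(t)`.
-/

set_option autoImplicit false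
set_option linter.style.haveILetI false

universe u

open scoped TensorProduct
open MvPolynomial

noncomputable section

namespace Groth.L11.NumOrth

variable (k A : Type u) [Field k] [CommRing A] [Algebra k A] (ι : Type u)

/-- The field `k(tᵢ)`. -/
abbrev Kt : Type u := FractionRing (MvPolynomial ι k)

/-- The variable `tᵢ` in `k(t)`. -/
def tvar (i : ι) : Kt k ι := algebraMap (MvPolynomial ι k) (Kt k ι) (X i)

/-- The generic map `A[t] → A ⊗ k(t)`. -/
def gen : MvPolynomial ι A →ₐ[A] A ⊗[k] Kt k ι := aeval fun i => 1 ⊗ₜ[k] tvar k ι i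

variable {k A ι}

theorem gen_map (q : MvPolynomial ι k) :
    gen k A ι (q.map (algebraMap k A)) = 1 ⊗ₜ[k] algebraMap (MvPolynomial ι k) (Kt k ι) q := by
  induction q using MvPolynomial.induction_on with
  | C r =>
    rw [map_C, gen, aeval_C, ← MvPolynomial.algebraMap_eq, ← IsScalarTower.algebraMap_apply,
      Algebra.TensorProduct.algebraMap_apply, Algebra.algebraMap_eq_smul_one, TensorProduct.smul_tmul]
    simp [IsScalarTower.algebraMap_apply k (MvPolynomial ι k) (Kt k ι), Algebra.smul_def]
  | add p q hp hq => simp only [map_add, hp, hq, TensorProduct.tmul_add]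
  | mul_X p i hp =>
    rw [map_mul, map_X, map_mul, hp, map_mul, gen, aeval_X, Algebra.TensorProduct.tmul_mul_tmul, one_mul]
    rfl

theorem gen_injective : Function.Injective (gen k A ι) := by
  let j : MvPolynomial ι k →ₗ[k] Kt k ι := (IsScalarTower.toAlgHom k (MvPolynomial ι k) (Kt k ι)).toLinearMap
  have hj : Function.Injective j := IsFractionRing.injective (MvPolynomial ι k) (Kt k ι)
  have hl := Module.Flat.lTensor_preserves_injective_linearMap (M := A) j hj
  let e := MvPolynomial.algebraTensorAlgEquiv (σ := ι) k A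
  have h : ∀ z : A ⊗[k] MvPolynomial ι k, gen k A ι (e z) = LinearMap.lTensor A j z := by
    intro z
    induction z with
    | zero => simp
    | add x y hx hy => simp only [map_add, hx, hy]
    | tmul b q =>
      rw [LinearMap.lTensor_tmul, MvPolynomial.algebraTensorAlgEquiv_tmul, map_smul, gen_map,
        TensorProduct.smul_tmul', smul_eq_mul, mul_one]
      rfl
  intro p q hpq
  apply e.symm.injective
  apply hl
  rw [← h, ← h, AlgEquiv.apply_symm_apply, AlgEquiv.apply_symm_apply, hpq]

/-- Every element becomes a polynomial after multiplying by a nonzero constant. -/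
theorem exists_num (z : A ⊗[k] Kt k ι) : ∃ (c : MvPolynomial ι k) (p : MvPolynomial ι A),
    c ≠ 0 ∧ z * gen k A ι (c.map (algebraMap k A)) = gen k A ι p := by
  induction z with
  | zero => exact ⟨1, 0, one_ne_zero, by simp⟩
  | add x y hx hy =>
    obtain ⟨c, p, hc, hp⟩ := hx
    obtain ⟨d, q, hd, hq⟩ := hy
    refine ⟨c * d, p * d.map (algebraMap k A) + q * c.map (algebraMap k A), mul_ne_zero hc hd, ?_⟩
    simp only [map_mul, map_add, ← hp, ← hq]
    ring
  | tmul b w =>
    obtain ⟨p, q, hq, rfl⟩ := IsFractionRing.div_surjective (MvPolynomial ι k) w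
    refine ⟨q, C b * p.map (algebraMap k A), nonZeroDivisors.ne_zero hq, ?_⟩
    rw [map_mul, gen_map, gen_map, gen, aeval_C, Algebra.TensorProduct.algebraMap_apply,
      Algebra.algebraMap_self, RingHom.id_apply, Algebra.TensorProduct.tmul_mul_tmul,
      Algebra.TensorProduct.tmul_mul_tmul, mul_one, one_mul,
      div_mul_cancel₀ _ (IsFractionRing.to_map_ne_zero_of_mem_nonZeroDivisors hq)]

theorem isUnit_const {c : MvPolynomial ι k} (hc : c ≠ 0) : IsUnit (gen k A ι (c.map (algebraMap k A))) := by
  rw [gen_map]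
  exact (IsUnit.mk0 _ (by simpa using hc)).map (Algebra.TensorProduct.includeRight (R := k) (A := A) (B := Kt k ι))

theorem isDomain_tensor [IsDomain A] : IsDomain (A ⊗[k] Kt k ι) := by
  haveI : Nontrivial (A ⊗[k] Kt k ι) :=
    ⟨gen k A ι 0, gen k A ι 1, fun h => zero_ne_one (gen_injective h)⟩
  haveI : NoZeroDivisors (A ⊗[k] Kt k ι) := ⟨fun {x y} h => by
    obtain ⟨c, p, hc, hp⟩ := exists_num x
    obtain ⟨d, q, hd, hq⟩ := exists_num y
    have h0 : gen k A ι (p * q) = gen k A ι 0 := by
      rw [map_mul, map_zero, ← hp, ← hq]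
      linear_combination (gen k A ι (c.map (algebraMap k A)) * gen k A ι (d.map (algebraMap k A))) * h
    rcases mul_eq_zero.1 (gen_injective h0) with h1 | h1
    · exact Or.inl ((isUnit_const hc).mul_left_eq_zero.1 (by rw [hp, h1, map_zero]))
    · exact Or.inr ((isUnit_const hd).mul_left_eq_zero.1 (by rw [hq, h1, map_zero]))⟩
  exact NoZeroDivisors.to_isDomain _

theorem includeLeft_injective {b : A} (h : b ⊗ₜ[k] (1 : Kt k ι) = 0) : b = 0 := by
  have h' : gen k A ι (C b) = gen k A ι 0 := by
    rw [gen, aeval_C, map_zero, Algebra.TensorProduct.algebraMap_apply, Algebra.algebraMap_self, RingHom.id_apply]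
    exact h
  exact C_eq_zero.1 (gen_injective h')

variable [Fintype ι]

/-- The generic combination. -/
def sigma (f : ι → A) : A ⊗[k] Kt k ι := ∑ i, f i ⊗ₜ[k] tvar k ι i

theorem gen_sigma (f : ι → A) : gen k A ι (∑ i, C (f i) * X i) = sigma f := by
  simp only [map_sum, map_mul, gen, aeval_C, aeval_X, sigma, Algebra.TensorProduct.algebraMap_apply,
    Algebra.algebraMap_self, RingHom.id_apply, Algebra.TensorProduct.tmul_mul_tmul, mul_one, one_mul]

theorem sigma_ne_zero {f : ι → A} {j : ι} (hj : f j ≠ 0) : sigma (k := k) f ≠ 0 := by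
  classical
  rw [← gen_sigma, ← map_zero (gen k A ι)]
  refine fun h => hj ?_
  have := congrArg (MvPolynomial.coeff (Finsupp.single j 1)) (gen_injective h)
  simpa [MvPolynomial.coeff_sum, MvPolynomial.coeff_X', Finsupp.single_eq_single_iff] using this

theorem prime_linear [IsDomain A] {f : ι → A} {j : ι} (hj : IsUnit (f j)) :
    (Ideal.span {(∑ i, C (f i) * X i : MvPolynomial ι A)}).IsPrime ∧
      ∀ b : A, C b ∈ Ideal.span {(∑ i, C (f i) * X i : MvPolynomial ι A)} → b = 0 := by
  classical
  let σ : MvPolynomial ι A := ∑ i, C (f i) * X i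
  let u : Aˣ := hj.unit
  let g : ι → MvPolynomial ι A := fun i => if i = j then X j - C (↑u⁻¹ : A) * σ else X i
  let ψ : MvPolynomial ι A →ₐ[A] MvPolynomial ι A := aeval g
  have hu : (f j) * (↑u⁻¹ : A) = 1 := hj.mul_val_inv
  have hψσ : ψ σ = 0 := by
    have h1 : ∀ i, ψ (C (f i) * X i) = C (f i) * X i - (if i = j then σ else 0) := fun i => by
      rw [map_mul, ← MvPolynomial.algebraMap_eq, AlgHom.commutes, aeval_X]
      simp only [g]
      split_ifs with h
      · subst h
        rw [mul_sub, ← mul_assoc, MvPolynomial.algebraMap_eq, ← map_mul, hu, map_one, one_mul]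
      · rw [sub_zero]
    rw [map_sum]
    simp only [h1, Finset.sum_sub_distrib, Finset.sum_ite_eq', Finset.mem_univ, if_true]
    exact sub_self σ
  have hsub : ∀ p, p - ψ p ∈ Ideal.span {σ} := by
    intro p
    induction p using MvPolynomial.induction_on with
    | C b => rw [← MvPolynomial.algebraMap_eq, AlgHom.commutes, sub_self]; exact zero_mem _
    | add p q hp hq =>
      rw [map_add, add_sub_add_comm]
      exact add_mem hp hq
    | mul_X p i hp =>
      rw [map_mul, show p * X i - ψ p * ψ (X i) = (p - ψ p) * X i + ψ p * (X i - ψ (X i)) by ring]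
      refine add_mem (Ideal.mul_mem_right _ _ hp) (Ideal.mul_mem_left _ _ ?_)
      rw [aeval_X]
      simp only [g]
      split_ifs with h
      · subst h
        rw [sub_sub_cancel]
        exact Ideal.mul_mem_left _ _ (Ideal.mem_span_singleton_self σ)
      · rw [sub_self]; exact zero_mem _
  have hker : Ideal.span {σ} = RingHom.ker ψ.toRingHom := by
    refine le_antisymm ((Ideal.span_singleton_le_iff_mem _).2 hψσ) fun p hp => ?_
    have := hsub p
    rwa [show ψ p = 0 from hp, sub_zero] at this
  change (Ideal.span {σ}).IsPrime ∧ ∀ b, C b ∈ Ideal.span {σ} → b = 0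
  rw [hker]
  refine ⟨RingHom.ker_isPrime _, fun b hb => C_eq_zero (σ := ι).1 ?_⟩
  have hb' : ψ (C b) = 0 := hb
  rwa [← MvPolynomial.algebraMap_eq, AlgHom.commutes, MvPolynomial.algebraMap_eq] at hb'

/-- Where a coefficient is a unit the zero locus is irreducible and dominates `A`. -/
theorem sigma_prime [IsDomain A] {f : ι → A} {j : ι} (hj : IsUnit (f j)) (h : ¬ IsUnit (sigma (k := k) f)) :
    (Ideal.span {sigma (k := k) f}).IsPrime ∧
      ∀ b : A, b ⊗ₜ[k] (1 : Kt k ι) ∈ Ideal.span {sigma (k := k) f} → b = 0 := by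
  obtain ⟨hp, hC⟩ := prime_linear (ι := ι) hj
  have key : ∀ (z : A ⊗[k] Kt k ι) (c : MvPolynomial ι k) (p : MvPolynomial ι A),
      z * gen k A ι (c.map (algebraMap k A)) = gen k A ι p → c ≠ 0 →
      (z ∈ Ideal.span {sigma (k := k) f} ↔ p ∈ Ideal.span {(∑ i, C (f i) * X i : MvPolynomial ι A)}) := by
    intro z c p hcp hc
    constructor
    · intro hz
      obtain ⟨w, hw⟩ := Ideal.mem_span_singleton'.1 hz
      obtain ⟨d, r, hd, hr⟩ := exists_num w
      have h1 : p * d.map (algebraMap k A) = (∑ i, C (f i) * X i) * (r * c.map (algebraMap k A)) := by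
        refine gen_injective (k := k) ?_
        rw [map_mul, ← hcp, ← hw, map_mul, gen_sigma, map_mul, ← hr]
        ring
      have h1' : p * d.map (algebraMap k A) ∈ Ideal.span {(∑ i, C (f i) * X i : MvPolynomial ι A)} := by
        rw [h1]; exact Ideal.mul_mem_right _ _ (Ideal.mem_span_singleton_self _)
      refine (hp.mem_or_mem h1').resolve_right ?_
      intro hd'
      obtain ⟨v, hv⟩ := Ideal.mem_span_singleton'.1 hd'
      exact h (isUnit_of_mul_isUnit_right (x := gen k A ι v) (by
        rw [← gen_sigma, ← map_mul, hv]; exact isUnit_const hd))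
    · intro hz
      obtain ⟨v, hv⟩ := Ideal.mem_span_singleton'.1 hz
      rw [← Ideal.unit_mul_mem_iff_mem _ (isUnit_const (A := A) hc), mul_comm, hcp, ← hv, map_mul, gen_sigma]
      exact Ideal.mul_mem_left _ _ (Ideal.mem_span_singleton_self _)
  refine ⟨⟨fun e => h (Ideal.span_singleton_eq_top.1 e), fun {x y} hxy => ?_⟩, fun b hb => ?_⟩
  · obtain ⟨c, p, hc, hcp⟩ := exists_num x
    obtain ⟨d, q, hd, hdq⟩ := exists_num y
    have h2 := (key (x * y) (c * d) (p * q) (by rw [map_mul (MvPolynomial.map _), map_mul, map_mul, ← hcp, ← hdq]; ring)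
      (mul_ne_zero hc hd)).1 hxy
    exact (hp.mem_or_mem h2).imp (key x c p hcp hc).2 (key y d q hdq hd).2
  · refine hC b ((key (b ⊗ₜ 1) 1 (C b) ?_ one_ne_zero).1 hb)
    rw [map_one, map_one, mul_one, gen, aeval_C, Algebra.TensorProduct.algebraMap_apply,
      Algebra.algebraMap_self, RingHom.id_apply]

end Groth.L11.NumOrth
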