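import Groth.Agent.L11.NumOrth.GenPoly
import Groth.Agent.L18.AmplePull
import Groth.Agent.L18.AmpleAvoid
import Groth.Agent.L29.LocFree
import Mathlib.AlgebraicGeometry.Pullbacks
import Mathlib.AlgebraicGeometry.PullbackCarrier
import Mathlib.AlgebraicGeometry.FunctionField

/-!
# The generic member of a linear system over a purely transcendental extension
-/

set_option autoImplicit false
set_option backward.isDefEq.respectTransparency false
set_option linter.style.haveILetI false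

universe u

open CategoryTheory CategoryTheory.Limits AlgebraicGeometry TopologicalSpace
open scoped TensorProduct

noncomputable section

namespace Groth.L11.NumOrth

open Groth.L18.Frame (rs ro rs_rs rs_self rs_smul IsFrame pull pull_rs pull_smul)
open Groth.L18.GenLoc (secOf secOf_homOfSection genLocus_inf_eq)

variable (k : Type u) [Field k] {X : Scheme.{u}} [X.Over (Spec (CommRingCat.of k))] (ι : Type u)

/-- The structure morphism of `Spec k(t)`. -/
abbrev ext : Spec (CommRingCat.of (Kt k ι)) ⟶ Spec (CommRingCat.of k) :=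
  Spec.map (CommRingCat.ofHom (algebraMap k (Kt k ι)))

/-- The scheme over `k(t)`. -/
abbrev XK (X : Scheme.{u}) [X.Over (Spec (CommRingCat.of k))] : Scheme.{u} :=
  pullback (X ↘ Spec (CommRingCat.of k)) (ext k ι)

instance : (XK k ι X).Over (Spec (CommRingCat.of (Kt k ι))) := ⟨pullback.snd _ _⟩

/-- The projection. -/
abbrev proj : XK k ι X ⟶ X := pullback.fst _ _

/-- Constants as functions. -/
def cst (w : Kt k ι) : Γ(XK k ι X, ⊤) :=
  (pullback.snd (X ↘ Spec (CommRingCat.of k)) (ext k ι)).appTop ((Scheme.ΓSpecIso (.of (Kt k ι))).inv w)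

section Chart

variable {V : X.Opens} (hV : IsAffineOpen V)

/-- The algebra structure of the functions on an affine open. -/
abbrev chartAlg : Algebra k Γ(X, V) :=
  (Spec.preimage (hV.fromSpec ≫ (X ↘ Spec (CommRingCat.of k)))).hom.toAlgebra

/-- The affine chart. -/
theorem exists_chart :
    letI := chartAlg k hV
    ∃ (ψ : Spec (CommRingCat.of (Γ(X, V) ⊗[k] Kt k ι)) ⟶ XK k ι X)
      (Φ : Γ(XK k ι X, proj k ι ⁻¹ᵁ V) →+* Γ(X, V) ⊗[k] Kt k ι),
      IsOpenImmersion ψ ∧ Set.range ψ = proj k ι ⁻¹' V ∧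
      (∀ a p, ψ p ∈ (XK k ι X).basicOpen a ↔ Φ a ∉ p.asIdeal) ∧
      (∀ b, Φ ((proj k ι).app V b) = b ⊗ₜ 1) ∧ (∀ w, Φ (ro le_top (cst k ι w)) = 1 ⊗ₜ w) ∧
      (∀ p, proj k ι (ψ p) = hV.fromSpec (Spec.map (CommRingCat.ofHom
        (Algebra.TensorProduct.includeLeftRingHom : Γ(X, V) →+* Γ(X, V) ⊗[k] Kt k ι)) p)) := by
  letI := chartAlg k hV
  let T := Γ(X, V) ⊗[k] Kt k ι
  let inl : Spec (CommRingCat.of T) ⟶ Spec Γ(X, V) :=
    Spec.map (CommRingCat.ofHom (Algebra.TensorProduct.includeLeftRingHom : Γ(X, V) →+* T))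
  let inr : Spec (CommRingCat.of T) ⟶ Spec (CommRingCat.of (Kt k ι)) :=
    Spec.map (CommRingCat.ofHom (Algebra.TensorProduct.includeRight (R := k)).toRingHom)
  have h1 : IsPullback inl inr (Spec.map (CommRingCat.ofHom (algebraMap k Γ(X, V)))) (ext k ι) :=
    isPullback_SpecMap_of_isPushout _ _ _ _ (CommRingCat.isPushout_tensorProduct k Γ(X, V) (Kt k ι))
  have hb : Spec.map (CommRingCat.ofHom (algebraMap k Γ(X, V))) = hV.fromSpec ≫ (X ↘ Spec (CommRingCat.of k)) :=
    Spec.map_preimage _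
  rw [hb] at h1
  let ψ : Spec (CommRingCat.of T) ⟶ XK k ι X :=
    pullback.lift (inl ≫ hV.fromSpec) inr (by rw [Category.assoc]; exact h1.w)
  have hψ1 : ψ ≫ proj k ι = inl ≫ hV.fromSpec := pullback.lift_fst _ _ _
  have hψ2 : ψ ≫ pullback.snd (X ↘ Spec (CommRingCat.of k)) (ext k ι) = inr := pullback.lift_snd _ _ _
  have sq : IsPullback inl ψ hV.fromSpec (proj k ι) :=
    IsPullback.of_bot (v₂₁ := pullback.snd _ _) (v₂₂ := X ↘ Spec (CommRingCat.of k))
      (by rw [hψ2]; exact h1) hψ1.symm (IsPullback.of_hasPullback _ _).flip.flip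
  have hopen : IsOpenImmersion ψ := MorphismProperty.of_isPullback (P := @IsOpenImmersion) sq inferInstance
  have hrange : Set.range ψ = proj k ι ⁻¹' V := by
    have h2 : Set.range ψ = Set.range (pullback.snd hV.fromSpec (proj k ι)) := by
      rw [← sq.isoPullback_hom_snd, Scheme.Hom.comp_base, TopCat.coe_comp,
        Set.range_comp, Set.range_eq_univ.2 sq.isoPullback.hom.surjective, Set.image_univ]
    rw [h2, Scheme.Pullback.range_snd, hV.range_fromSpec]
  have hle : (⊤ : (Spec (CommRingCat.of T)).Opens) ≤ ψ ⁻¹ᵁ proj k ι ⁻¹ᵁ V := fun p _ => by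
    show ψ p ∈ proj k ι ⁻¹' (V : Set X)
    rw [← hrange]
    exact Set.mem_range_self p
  let Φ : Γ(XK k ι X, proj k ι ⁻¹ᵁ V) →+* T :=
    (ψ.appLE (proj k ι ⁻¹ᵁ V) ⊤ hle ≫ (Scheme.ΓSpecIso (.of T)).hom).hom
  refine ⟨ψ, Φ, hopen, hrange, fun a p => ?_, fun b => ?_, fun w => ?_, fun p => ?_⟩
  · have h3 : p ∈ ψ ⁻¹ᵁ (XK k ι X).basicOpen a ↔
        p ∈ (Spec (CommRingCat.of T)).basicOpen (ψ.appLE (proj k ι ⁻¹ᵁ V) ⊤ hle a) := by
      rw [Scheme.basicOpen_appLE]
      exact ⟨fun h => ⟨trivial, h⟩, fun h => h.2⟩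
    refine h3.trans ?_
    rw [basicOpen_eq_of_affine']
    rfl
  · show ((proj k ι).app V ≫ ψ.appLE (proj k ι ⁻¹ᵁ V) ⊤ hle ≫ (Scheme.ΓSpecIso (.of T)).hom) b = _
    rw [← Category.assoc, ← Scheme.Hom.comp_appLE]
    have h4 : (inl ≫ hV.fromSpec).appLE V ⊤ (by rw [← hψ1]; exact hle) ≫ (Scheme.ΓSpecIso (.of T)).hom =
        CommRingCat.ofHom (Algebra.TensorProduct.includeLeftRingHom : Γ(X, V) →+* T) := by
      rw [Scheme.Hom.comp_appLE, hV.fromSpec_app_self, Category.assoc, Category.assoc,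
        Scheme.Hom.map_appLE_assoc]
      show (Scheme.ΓSpecIso Γ(X, V)).inv ≫ inl.appLE ⊤ ⊤ le_top ≫ (Scheme.ΓSpecIso (.of T)).hom = _
      rw [show inl.appLE ⊤ ⊤ le_top = inl.appTop from inl.app_eq_appLE.symm]
      show (Scheme.ΓSpecIso Γ(X, V)).inv ≫ (Spec.map (CommRingCat.ofHom
        (Algebra.TensorProduct.includeLeftRingHom : Γ(X, V) →+* T))).appTop ≫ (Scheme.ΓSpecIso (.of T)).hom = _
      rw [Scheme.ΓSpecIso_naturality]
      exact Iso.inv_hom_id_assoc _ _
    simp only [hψ1]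
    rw [h4]
    rfl
  · show ((Spec (CommRingCat.of (Kt k ι))).presheaf.map (𝟙 _) ≫
      (pullback.snd (X ↘ Spec (CommRingCat.of k)) (ext k ι)).appTop ≫
      (XK k ι X).presheaf.map (homOfLE le_top).op ≫ ψ.appLE (proj k ι ⁻¹ᵁ V) ⊤ hle ≫
        (Scheme.ΓSpecIso (.of T)).hom) ((Scheme.ΓSpecIso (.of (Kt k ι))).inv w) = _
    rw [CategoryTheory.Functor.map_id, Category.id_comp, Scheme.Hom.map_appLE_assoc, ← Category.assoc,
      show ψ.appLE ⊤ ⊤ le_top = ψ.appTop from (ψ.app_eq_appLE).symm, ← Scheme.Hom.comp_appTop, hψ2,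
      Scheme.ΓSpecIso_naturality]
    exact congrArg (fun z => (Algebra.TensorProduct.includeRight (R := k) (A := Γ(X, V)) (B := Kt k ι)) z)
      (congrArg (fun f : (CommRingCat.of (Kt k ι)) ⟶ CommRingCat.of (Kt k ι) => f w)
        (Scheme.ΓSpecIso (.of (Kt k ι))).inv_hom_id)
  · rw [← Scheme.Hom.comp_apply, hψ1, Scheme.Hom.comp_apply]
    rfl

/-- The image of a point of a chart is generic exactly when its prime meets the coefficients trivially. -/
theorem fromSpec_eq_genericPoint [IsIntegral X] [Nonempty V] (q : Spec Γ(X, V)) :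
    hV.fromSpec q = genericPoint X ↔ q.asIdeal = ⊥ := by
  have h0 : hV.fromSpec ⟨⊥, Ideal.isPrime_bot⟩ = genericPoint X := by
    have hmem : genericPoint X ∈ V := by
      obtain ⟨⟨v, hv⟩⟩ := ‹Nonempty V›
      exact ((genericPoint_spec X).specializes trivial).mem_open V.2 hv
    obtain ⟨q, hq⟩ : genericPoint X ∈ Set.range hV.fromSpec := by rw [hV.range_fromSpec]; exact hmem
    have h : hV.fromSpec q ⤳ hV.fromSpec ⟨⊥, Ideal.isPrime_bot⟩ := by
      rw [hq]; exact (genericPoint_spec X).specializes trivial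
    rw [hV.fromSpec.isOpenEmbedding.isInducing.specializes_iff, ← PrimeSpectrum.le_iff_specializes] at h
    rw [← hq]
    congr 1
    exact (le_antisymm h (show (⊥ : Ideal _) ≤ _ from bot_le)).symm
  constructor
  · intro h
    rw [hV.fromSpec.isOpenEmbedding.injective (h.trans h0.symm)]
  · intro h
    rw [← h0]
    congr 1
    exact PrimeSpectrum.ext h

variable [IsIntegral X] [Nonempty V]

include hV in
/-- Points over an affine open specialise from a point over the generic point. -/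
theorem exists_generic_over {z : XK k ι X} (hz : proj k ι z ∈ V) :
    ∃ η : XK k ι X, η ⤳ z ∧ proj k ι η = genericPoint X ∧
      (∀ z', proj k ι z' ∈ V → η ⤳ z') ∧
      IsReduced (proj k ι ⁻¹ᵁ V).toScheme := by
  letI := chartAlg k hV
  obtain ⟨ψ, Φ, hopen, hrange, -, -, -, hproj⟩ := exists_chart k ι hV
  haveI := hopen
  haveI := isDomain_tensor (k := k) (A := Γ(X, V)) (ι := ι)
  let η := ψ ⟨⊥, Ideal.isPrime_bot⟩
  have hall : ∀ z', proj k ι z' ∈ V → η ⤳ z' := fun z' hz' => by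
    obtain ⟨q, rfl⟩ : z' ∈ Set.range ψ := by rw [hrange]; exact hz'
    exact ((PrimeSpectrum.le_iff_specializes ⟨⊥, Ideal.isPrime_bot⟩ q).1 bot_le).map ψ.continuous
  refine ⟨η, hall z hz, ?_, hall, ?_⟩
  · rw [hproj, fromSpec_eq_genericPoint hV]
    exact eq_bot_iff.2 fun b hb => includeLeft_injective (k := k) (ι := ι) hb
  · haveI : IsReduced ψ.opensRange.toScheme := isReduced_of_isOpenImmersion ψ.isoOpensRange.inv
    have hle : proj k ι ⁻¹ᵁ V ≤ ψ.opensRange := fun x hx => by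
      rw [← SetLike.mem_coe, Scheme.Hom.coe_opensRange, hrange]; exact hx
    exact isReduced_of_isOpenImmersion ((XK k ι X).homOfLE hle)

end Chart

variable [IsIntegral X]

/-- A variety stays integral over a purely transcendental extension. -/
theorem isIntegral_XK [Nonempty (XK k ι X)] : IsIntegral (XK k ι X) := by
  have hcov : ∀ z : XK k ι X, ∃ V : X.Opens, IsAffineOpen V ∧ proj k ι z ∈ V := fun z => by
    obtain ⟨_, ⟨V, hV, rfl⟩, hz, -⟩ := X.isBasis_affineOpens.exists_subset_of_mem_open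
      (Set.mem_univ (proj k ι z)) isOpen_univ
    exact ⟨V, hV, hz⟩
  choose V hV hz using hcov
  have hne : ∀ z, Nonempty (V z) := fun z => ⟨⟨_, hz z⟩⟩
  choose η hη hgη hall hred using fun z => @exists_generic_over k _ X _ ι (V z) (hV z) _ (hne z) z (hz z)
  obtain ⟨z₀⟩ := ‹Nonempty (XK k ι X)›
  have hmem : ∀ z, proj k ι (η z) ∈ V z₀ := fun z => by
    rw [hgη]
    exact ((genericPoint_spec X).specializes trivial).mem_open (V z₀).2 (hz z₀)
  haveI : IrreducibleSpace (XK k ι X) := by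
    have h : closure ({η z₀} : Set (XK k ι X)) = Set.univ := Set.eq_univ_of_forall fun z =>
      specializes_iff_mem_closure.1 ((hall z₀ (η z) (hmem z)).trans (hη z))
    haveI : PreirreducibleSpace (XK k ι X) := ⟨h ▸ isIrreducible_singleton.closure.isPreirreducible⟩
    exact ⟨⟨z₀⟩⟩
  haveI : IsReduced (XK k ι X) := by
    have hall' : ∀ z, _root_.IsReduced ((XK k ι X).presheaf.stalk z) := fun z => by
      haveI := hred z
      exact isReduced_of_injective _
        ((proj k ι ⁻¹ᵁ V z).stalkIso ⟨z, hz z⟩).commRingCatIsoToRingEquiv.symm.injective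
    haveI := hall'
    exact isReduced_of_isReduced_stalk _
  exact isIntegral_of_irreducibleSpace_of_isReduced _

section Member

variable {ι} [Fintype ι] {M : X.Modules} (s : ι → (Coh.structureModule X ⟶ M))

/-- A pulled back section. -/
def psec (i : ι) : Γ((Scheme.Modules.pullback (proj (X := X) k ι)).obj M, (⊤ : (XK k ι X).Opens)) :=
  pull (proj k ι) M ⊤ (secOf (s i))

/-- The generic member. -/
def member : Coh.structureModule (XK k ι X) ⟶ (Scheme.Modules.pullback (proj k ι)).obj M :=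
  Groth.L16.homOfSection _ (∑ i, cst (X := X) k ι (tvar k ι i) • psec k s i)

omit [IsIntegral X] in
/-- The member in a chart. -/
theorem exists_member_chart {V : X.Opens} (hV : IsAffineOpen V) {e : Γ(M, V)} (he : IsFrame M V e)
    {f : ι → Γ(X, V)} (hf : ∀ i, f i • e = rs M le_top (secOf (s i))) :
    letI := chartAlg k hV
    ∃ ψ : Spec (CommRingCat.of (Γ(X, V) ⊗[k] Kt k ι)) ⟶ XK k ι X,
      Set.range ψ = proj k ι ⁻¹' V ∧
      (∀ p, ψ p ∈ CohB1.genLocus _ (member k s) ↔ sigma (k := k) f ∉ p.asIdeal) ∧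
      (∀ p, proj k ι (ψ p) = hV.fromSpec (Spec.map (CommRingCat.ofHom
        (Algebra.TensorProduct.includeLeftRingHom : Γ(X, V) →+* Γ(X, V) ⊗[k] Kt k ι)) p)) := by
  letI := chartAlg k hV
  obtain ⟨ψ, Φ, -, hrange, hbasic, hleft, hright, hproj⟩ := exists_chart k ι hV
  refine ⟨ψ, hrange, fun p => ?_, hproj⟩
  let a : Γ(XK k ι X, proj k ι ⁻¹ᵁ V) := ∑ i, ro le_top (cst k ι (tvar k ι i)) * (proj k ι).app V (f i)
  have ha : a • pull (proj k ι) M V e =
      rs ((Scheme.Modules.pullback (proj k ι)).obj M) le_top (secOf (member k s)) := by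
    rw [member, secOf_homOfSection, show rs ((Scheme.Modules.pullback (proj k ι)).obj M)
        (le_top : proj k ι ⁻¹ᵁ V ≤ ⊤) (∑ i, cst k ι (tvar k ι i) • psec k s i) = _ from map_sum _ _ _, Finset.sum_smul]
    refine Finset.sum_congr rfl fun i _ => ?_
    show _ = rs ((Scheme.Modules.pullback (proj k ι)).obj M) (le_top : proj k ι ⁻¹ᵁ V ≤ ⊤)
      (cst k ι (tvar k ι i) • psec k s i)
    rw [rs_smul, mul_smul, Groth.L18.Ample.coeff_pull (proj k ι) (s i) (hf i)]
    rfl
  have hΦ : Φ a = sigma (k := k) f := by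
    simp only [a, map_sum, map_mul, hleft, hright, sigma, Algebra.TensorProduct.tmul_mul_tmul, one_mul, mul_one]
  rw [← hΦ, ← hbasic, ← genLocus_inf_eq (member k s) (he.pullback (proj k ι) M) ha]
  exact ⟨fun h => ⟨h, show ψ p ∈ proj k ι ⁻¹' (V : Set X) from hrange ▸ Set.mem_range_self p⟩, fun h => h.1⟩

omit [IsIntegral X] in
/-- The base locus lies in the generic member. -/
theorem member_base (hM : PicF.IsInvertible M) {z : XK k ι X}
    (hz : ∀ i, proj k ι z ∉ CohB1.genLocus M (s i)) : z ∉ CohB1.genLocus _ (member k s) := by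
  obtain ⟨V, e, hV, hzV, he⟩ := Groth.L18.GenLoc.exists_affine_frame hM (proj k ι z)
  choose f hf using fun i => he.exists_coeff le_rfl (rs M le_top (secOf (s i)))
  simp only [rs_self] at hf
  obtain ⟨ψ, hrange, hmem, hproj⟩ := exists_member_chart k s hV he hf
  letI := chartAlg k hV
  obtain ⟨p, rfl⟩ : z ∈ Set.range ψ := by rw [hrange]; exact hzV
  rw [hmem, not_not]
  refine Ideal.sum_mem _ fun i _ => ?_
  have h1 : proj k ι (ψ p) ∉ X.basicOpen (f i) := fun h => hz i (by
    rw [← genLocus_inf_eq (s i) he (hf i)] at h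
    exact h.1)
  rw [hproj] at h1
  have h2 : f i ⊗ₜ[k] (1 : Kt k ι) ∈ p.asIdeal := by
    by_contra hne
    refine h1 ?_
    show _ ∈ hV.fromSpec ⁻¹ᵁ X.basicOpen (f i)
    rw [hV.fromSpec_preimage_basicOpen]
    exact hne
  simpa using p.asIdeal.mul_mem_right ((1 : Γ(X, V)) ⊗ₜ[k] tvar k ι i) h2

/-- The member avoids the generic point. -/
theorem member_generic [IsIntegral (XK k ι X)] (hM : PicF.IsInvertible M) {j : ι}
    (hj : genericPoint X ∈ CohB1.genLocus M (s j)) :
    genericPoint (XK k ι X) ∈ CohB1.genLocus _ (member k s) := by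
  obtain ⟨V, e, hV, hzV, he⟩ := Groth.L18.GenLoc.exists_affine_frame hM (genericPoint X)
  haveI : Nonempty V := ⟨⟨_, hzV⟩⟩
  choose f hf using fun i => he.exists_coeff le_rfl (rs M le_top (secOf (s i)))
  simp only [rs_self] at hf
  obtain ⟨ψ, hrange, hmem, hproj⟩ := exists_member_chart k s hV he hf
  letI := chartAlg k hV
  haveI := isDomain_tensor (k := k) (A := Γ(X, V)) (ι := ι)
  have hfj : f j ≠ 0 := fun h => by
    have h1 : genericPoint X ∈ X.basicOpen (f j) := by
      rw [← genLocus_inf_eq (s j) he (hf j)]; exact ⟨hj, hzV⟩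
    rw [h, X.basicOpen_zero] at h1
    exact h1
  have h := (hmem ⟨⊥, Ideal.isPrime_bot⟩).2 (fun hb => sigma_ne_zero hfj (Ideal.mem_bot.1 hb))
  exact ((genericPoint_spec (XK k ι X)).specializes trivial).mem_open (CohB1.genLocus _ (member k s)).2 h

/-- Off the base locus the member has one generic point. -/
theorem exists_member_generic {z z' : XK k ι X}
    (hz : z ∉ CohB1.genLocus _ (member k s)) (hz' : z' ∉ CohB1.genLocus _ (member k s))
    {j j' : ι} (hj : proj k ι z ∈ CohB1.genLocus M (s j)) (hj' : proj k ι z' ∈ CohB1.genLocus M (s j')) :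
    ∃ η, η ∉ CohB1.genLocus _ (member k s) ∧ η ⤳ z ∧ η ⤳ z' := by
  have main : ∀ (z : XK k ι X) (j : ι), z ∉ CohB1.genLocus _ (member k s) →
      proj k ι z ∈ CohB1.genLocus M (s j) → ∃ (η : XK k ι X) (V : X.Opens),
        η ∉ CohB1.genLocus _ (member k s) ∧ η ⤳ z ∧ proj k ι η = genericPoint X ∧ proj k ι z ∈ V ∧
        ∀ w, w ∉ CohB1.genLocus _ (member k s) → proj k ι w ∈ V → η ⤳ w := by
    intro z j hz hj
    obtain ⟨_, ⟨V, hV, rfl⟩, hzV, hVj⟩ := X.isBasis_affineOpens.exists_subset_of_mem_open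
      hj (CohB1.genLocus M (s j)).2
    haveI : Nonempty V := ⟨⟨_, hzV⟩⟩
    have he := (Groth.L18.GenLoc.isFrame_genLocus (s j)).mono (show V ≤ CohB1.genLocus M (s j) from hVj)
    rw [rs_rs] at he
    choose f hf using fun i => he.exists_coeff le_rfl (rs M le_top (secOf (s i)))
    simp only [rs_self] at hf
    obtain ⟨ψ, hrange, hmem, hproj⟩ := exists_member_chart k s hV he hf
    letI := chartAlg k hV
    have hfj : IsUnit (f j) := by
      rw [he.inj le_rfl (a := f j) (b := 1) (by rw [rs_self, hf j, one_smul])]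
      exact isUnit_one
    obtain ⟨p, rfl⟩ : z ∈ Set.range ψ := by rw [hrange]; exact hzV
    rw [hmem, not_not] at hz
    obtain ⟨hp, hC⟩ := sigma_prime (k := k) hfj fun hu => p.2.ne_top (p.asIdeal.eq_top_of_isUnit_mem hz hu)
    let q : Spec (CommRingCat.of (Γ(X, V) ⊗[k] Kt k ι)) := ⟨_, hp⟩
    have hq : ∀ p' : Spec (CommRingCat.of (Γ(X, V) ⊗[k] Kt k ι)), sigma (k := k) f ∈ p'.asIdeal → ψ q ⤳ ψ p' :=
      fun p' h => ((PrimeSpectrum.le_iff_specializes q p').1 ((Ideal.span_singleton_le_iff_mem _).2 h)).map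
        ψ.continuous
    refine ⟨ψ q, V, ?_, hq p hz, ?_, hzV, fun w hw hwV => ?_⟩
    · rw [hmem, not_not]
      exact Ideal.mem_span_singleton_self _
    · rw [hproj, fromSpec_eq_genericPoint hV]
      exact eq_bot_iff.2 fun b hb => hC b hb
    · obtain ⟨p', rfl⟩ : w ∈ Set.range ψ := by rw [hrange]; exact hwV
      exact hq p' (not_not.1 fun h => hw ((hmem p').2 h))
  obtain ⟨η, V, hη, hηz, -, hzV, hall⟩ := main z j hz hj
  obtain ⟨η', -, hη', hη'z, hgη', -, -⟩ := main z' j' hz' hj'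
  exact ⟨η, hη, hηz, (hall η' hη' (hgη' ▸ ((genericPoint_spec X).specializes trivial).mem_open V.2 hzV)).trans hη'z⟩

end Member

end Groth.L11.NumOrth
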