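import Groth.Agent.L11.NumOrth.NumZero
import Groth.Agent.L11.NumOrth.NefBC
import Groth.Agent.L22.Big.Growth
import Groth.Agent.L22.CurveThrough
import Groth.Agent.L08.Cube.NoCurve

/-!
# Numerically trivial invertible modules; sections in nonpositive degree
-/

set_option autoImplicit false
set_option backward.isDefEq.respectTransparency false
set_option linter.style.haveILetI false
set_option linter.unusedSectionVars false

universe u

open CategoryTheory CategoryTheory.Limits AlgebraicGeometry TopologicalSpace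

noncomputable section

namespace Groth.L11.NumOrth

open Groth.L22.Inter Groth.L22.Nef Groth.L22.Big Groth.L03.Euler Groth.L16
open Groth.L00.Tensor (tensorIso tensorComm)

variable (k : Type u) [Field k] {X : Scheme.{u}} [X.Over (Spec (CommRingCat.of k))]
  [IsProper (X ↘ Spec (CommRingCat.of k))]

/-- Numerically trivial invertible modules. -/
def NT (L : X.Modules) : Prop := PicF.IsInvertible L ∧ Pic13.IsNumEquivZero k X L

variable {k}

theorem NT.deg {L : X.Modules} (h : NT k L) {y : X}
    (hy : topologicalKrullDim (closure ({y} : Set X)) = (1 : ℕ)) :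
    altT k (fun _ : Fin 1 => L) (ClSub.quotMod (pt y)) = 0 :=
  (numZero_iff k h.1).1 h.2 y hy

theorem NT.unit : NT k (Coh.structureModule X) :=
  ⟨Groth.L18.Ample.isInvertible_structureModule X,
    (numZero_iff k (Groth.L18.Ample.isInvertible_structureModule X)).2 fun y _ => Groth.L02.Num.deg_unit y⟩

theorem NT.tensor {L L' : X.Modules} (h : NT k L) (h' : NT k L') : NT k (CohB1.tensorMod L L') :=
  ⟨Groth.L18.GenLoc.isInvertible_tensor h.1 h'.1,
    (numZero_iff k (Groth.L18.GenLoc.isInvertible_tensor h.1 h'.1)).2 fun y hy => by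
      rw [Groth.L02.Num.deg_tensor h.1 h'.1 y hy, h.deg hy, h'.deg hy, add_zero]⟩

theorem NT.pow {L : X.Modules} (h : NT k L) : ∀ n : ℕ, NT k (CohB1.tensorPow L n)
  | 0 => NT.unit
  | n + 1 => (NT.pow h n).tensor h

theorem NT.exists_inverse {L : X.Modules} (h : NT k L) :
    ∃ Q : X.Modules, NT k Q ∧ Nonempty (CohB1.tensorMod L Q ≅ Coh.structureModule X) := by
  obtain ⟨Q, hQ, ⟨e⟩⟩ := Groth.L08.Cube.exists_inverse h.1
  refine ⟨Q, ⟨hQ, (numZero_iff k hQ).2 fun y hy => ?_⟩, ⟨e⟩⟩
  have h1 := Groth.L02.Num.deg_tensor (k := k) h.1 hQ y hy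
  rw [altT_congr k (fun _ => ⟨e⟩), h.deg hy, zero_add] at h1
  exact h1.symm.trans (Groth.L02.Num.deg_unit y)

theorem NT.nef {L : X.Modules} (h : NT k L) : IsNef k L := ⟨h.1, fun _ hy => (h.deg hy).ge⟩

/-- A module of nonpositive degree on all curves with a nonzero section is trivial. -/
theorem nonempty_iso_of_section [IsIntegral X] {L : X.Modules} (hL : PicF.IsInvertible L)
    (hdeg : ∀ y : X, topologicalKrullDim (closure ({y} : Set X)) = (1 : ℕ) →
      altT k (fun _ : Fin 1 => L) (ClSub.quotMod (pt y)) ≤ 0)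
    (s : Coh.structureModule X ⟶ L) (hs : s ≠ 0) : Nonempty (L ≅ Coh.structureModule X) := by
  haveI := Groth.L21.RR.isNoetherian_of_proper (X := X) k
  by_cases htop : CohB1.genLocus L s = ⊤
  · exact Groth.L08.Cube.nonempty_iso_of_genLocus_eq_top s htop
  exfalso
  have hne : ((CohB1.genLocus L s : Set X)ᶜ).Nonempty := by
    by_contra h
    exact htop (TopologicalSpace.Opens.ext (Set.eq_univ_of_forall fun x => not_not.1 fun hx => h ⟨x, hx⟩))
  obtain ⟨q, hqT, hq⟩ := (CohB1.genLocus L s).2.isClosed_compl.exists_closed_singleton hne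
  obtain ⟨y, -, hyq, hyT, hy⟩ := Groth.L22.CurveThrough.exists_curve_avoiding k X
    (CohB1.genLocus L s).2.isClosed_compl ((genericPoint_spec X).specializes (Set.mem_univ q)) hq hqT
    (not_not.2 (Groth.L22.CurveAmple.genericPoint_mem_genLocus hL hs))
  haveI := isIntegral_pt y
  let i := (pt y).subschemeι
  let C := (pt y).subscheme
  letI : C.Over (Spec (CommRingCat.of k)) := ⟨i ≫ (X ↘ Spec (CommRingCat.of k))⟩
  haveI : IsProper (C ↘ Spec (CommRingCat.of k)) :=
    inferInstanceAs (IsProper (i ≫ (X ↘ Spec (CommRingCat.of k))))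
  haveI := Groth.L21.RR.isNoetherian_of_proper (X := C) k
  have hy' : topologicalKrullDim (closure ({y} : Set X)) = (1 : ℕ) := by exact_mod_cast hy
  have hC : topologicalKrullDim C = (1 : ℕ) := by rw [← dim_closure_image i, genericPoint_pt, hy']
  obtain ⟨q₁, hq₁⟩ : q ∈ Set.range i := by rw [range_pt]; exact specializes_iff_mem_closure.1 hyq
  let t := Groth.L18.Ample.pullHom i s
  have hN := Groth.L18.Ample.isInvertible_pullback i hL
  have hgen : CohB1.genLocus _ t = i ⁻¹ᵁ CohB1.genLocus L s := Groth.L18.Ample.genLocus_pullHom i hL s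
  have hη : genericPoint C ∈ CohB1.genLocus _ t := by
    rw [hgen]
    show i (genericPoint C) ∈ CohB1.genLocus L s
    rw [genericPoint_pt]
    exact not_not.1 hyT
  haveI : Mono t := Groth.L22.Nakai.mono_of_injective (Groth.L18.Ample.isInvertible_structureModule C) t
    (bijective_stalk_section t hη).1
  obtain ⟨hD, hDη⟩ := cokernel_facts k (Groth.L18.Ample.isInvertible_structureModule C) hN t
  haveI : Coh.IsQCoh ((Scheme.Modules.pullback i).obj L) := (Groth.L18.Ample.isCoh_of_isInvertible hN).1
  have hqD : q₁ ∈ CohB1.support (cokernel t) := by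
    by_contra h
    rw [notMem_support_cokernel_iff] at h
    have h' : q₁ ∈ CohB1.genLocus _ t := (Groth.L21.RR.mem_genLocus_iff hN t q₁).2 h
    rw [hgen] at h'
    exact hqT (show q ∈ CohB1.genLocus L s from hq₁ ▸ h')
  have hd0 : topologicalKrullDim (CohB1.support (cokernel t)) = ((0 : ℕ) : WithBot ℕ∞) := by
    refine le_antisymm (dim_le_of_generic_notMem (CohSupport.isClosed_support _ hD.2) hDη hC.le) ?_
    simpa using Groth.L03.Euler.zero_le_topologicalKrullDim (S := CohB1.support (cokernel t)) ⟨q₁, hqD⟩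
  have hpos := ((mixed k (Fin.elim0 : Fin 0 → C.Modules) Fin.elim0 (fun i => i.elim0)
    (fun i => i.elim0) hD hd0.le).2.2) hd0
  rw [← altT_cons_coker k hN (fun i => i.elim0) t] at hpos
  have h5 := altT_push_eq k i rfl hC (L := fun _ : Fin 1 => L) fun _ => hL
  rw [genericPoint_pt] at h5
  rw [show (Fin.cons ((Scheme.Modules.pullback i).obj L) (Fin.elim0 : Fin 0 → C.Modules) : Fin 1 → C.Modules) =
    fun _ => (Scheme.Modules.pullback i).obj L from funext fun j => Fin.cases rfl (fun l => l.elim0) j,
    h5] at hpos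
  exact absurd hpos (not_lt.2 (hdeg y hy'))

/-- Sections in nonpositive degree are at most the functions. -/
theorem h0_le_of_deg_nonpos [IsIntegral X] {L : X.Modules} (hL : PicF.IsInvertible L)
    (hdeg : ∀ y : X, topologicalKrullDim (closure ({y} : Set X)) = (1 : ℕ) →
      altT k (fun _ : Fin 1 => L) (ClSub.quotMod (pt y)) ≤ 0) :
    h0 k L ≤ h0 k (Coh.structureModule X) := by
  rcases Nat.eq_zero_or_pos (h0 k L) with h | h
  · omega
  obtain ⟨s, hs⟩ := exists_nonzero_of_h0 k h
  obtain ⟨e⟩ := nonempty_iso_of_section hL hdeg s hs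
  exact (h0_iso k e).le

end Groth.L11.NumOrth
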