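import Groth.Agent.L11.NumOrth.Main
import Groth.Agent.L11.NumOrth.Proper
import Groth.Agent.L22.ZeroScheme
import Groth.Agent.L18.AmplePull
import Groth.Agent.L15.Ref.Tensor

/-!
# Numerical triviality is detected on a hyperplane section with components of dimension at least two
-/

set_option autoImplicit false
set_option backward.isDefEq.respectTransparency false
set_option linter.style.haveILetI false
set_option linter.unusedSectionVars false

universe u

open CategoryTheory CategoryTheory.Limits AlgebraicGeometry TopologicalSpace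

noncomputable section

namespace Groth.L11.NumOrth

open Groth.L22.Inter Groth.L22.Nef Groth.L22.Big Groth.L03.Euler Groth.L16
open Groth.L00.Tensor (tensorIso tensorComm tensorAssoc)

variable (k : Type u) [Field k] {X : Scheme.{u}} [X.Over (Spec (CommRingCat.of k))]
  [IsProper (X ↘ Spec (CommRingCat.of k))]

/-- An intersection number with a numerically trivial slot vanishes. -/
theorem altT_cons_NT {L : X.Modules} (hL : NT k L) {r : ℕ} {R : Fin r → X.Modules}
    (hR : ∀ i, PicF.IsInvertible (R i)) {F : X.Modules} (hF : Coh.IsCoh F) :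
    altT k (Fin.cons L R) F = 0 := by
  haveI := Groth.L21.RR.isNoetherian_of_proper (X := X) k
  rw [altT_cons, sub_eq_zero]
  have h : twEuler k R (CohB1.tensorMod F L) = twEuler k R F := funext fun n => by
    let N := Curv2.tensorPows (Coh.structureModule X) r R n
    have hN : Coh.IsCoh (CohB1.tensorMod F N) := by
      refine Groth.L15.Ref.isCoh_tensorMod hF ?_
      show Coh.IsCoh (Curv2.tensorPows (Coh.structureModule X) r R n)
      clear N
      induction r with
      | zero => exact CohClosedPush.isCoh_structure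
      | succ r ih =>
        exact Groth.L15.Ref.isCoh_tensorMod (ih (fun i => hR i.castSucc) _)
          (Groth.L18.Ample.isCoh_of_isInvertible (Groth.L18.Ample.isInvertible_tensorPow (hR _) _))
    show ((Curv2.euler k X (CohB1.tensorMod (CohB1.tensorMod F L) N) : ℤ) : ℚ) =
      ((Curv2.euler k X (CohB1.tensorMod F N) : ℤ) : ℚ)
    rw [euler_iso (tensorAssoc F L N ≪≫ tensorIso (Iso.refl F) (tensorComm L N) ≪≫ (tensorAssoc F N L).symm),
      euler_invariant k hL.1 hL.2 hN]
  exact congrArg alt h

/-- Numerical triviality on the points of a closed set, restricted to an integral subscheme inside it. -/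
theorem NT_pullback_pt {L : X.Modules} (hL : PicF.IsInvertible L) {S : Set X}
    (h : ∀ y ∈ S, topologicalKrullDim (closure ({y} : Set X)) = (1 : ℕ) →
      altT k (fun _ : Fin 1 => L) (ClSub.quotMod (pt y)) = 0)
    {C : Scheme.{u}} [C.Over (Spec (CommRingCat.of k))] [IsProper (C ↘ Spec (CommRingCat.of k))]
    (g : C ⟶ X) [IsClosedImmersion g] (hg : g ≫ (X ↘ Spec (CommRingCat.of k)) = C ↘ Spec (CommRingCat.of k))
    (hsub : Set.range g ⊆ S) : NT k ((Scheme.Modules.pullback g).obj L) := by
  have hLC := Groth.L18.Ample.isInvertible_pullback g hL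
  refine ⟨hLC, (numZero_iff k hLC).2 fun c hc => ?_⟩
  haveI := isIntegral_pt c
  let e := (pt c).subschemeι
  letI : (pt c).subscheme.Over (Spec (CommRingCat.of k)) := ⟨e ≫ (C ↘ Spec (CommRingCat.of k))⟩
  haveI : IsProper ((pt c).subscheme ↘ Spec (CommRingCat.of k)) :=
    inferInstanceAs (IsProper (e ≫ (C ↘ Spec (CommRingCat.of k))))
  have hdc : topologicalKrullDim (pt c).subscheme = (1 : ℕ) := by
    rw [← dim_closure_image e, genericPoint_pt, hc]
  have h4 := altT_push_eq k e rfl hdc (L := fun _ : Fin 1 => (Scheme.Modules.pullback g).obj L) fun _ => hLC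
  have h5 := altT_push_eq k (e ≫ g) (show (e ≫ g) ≫ (X ↘ Spec (CommRingCat.of k)) = _ by
    rw [Category.assoc, hg]; rfl) hdc (L := fun _ : Fin 1 => L) fun _ => hL
  rw [genericPoint_pt] at h4
  rw [Scheme.Hom.comp_apply, genericPoint_pt,
    h (g c) (hsub ⟨c, rfl⟩) (by rw [dim_closure_map g.isClosedEmbedding]; exact hc)] at h5
  rw [← h4, ← h5]
  exact altT_congr k (fun _ => ⟨(Scheme.Modules.pullbackComp e g).app L⟩) _

variable [IsAlgClosed k]

/-- An invertible module numerically trivial on a hyperplane section is numerically trivial. -/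
theorem numZero_of_restrict {H : X.Modules} (hH : CohB1.IsAmple H) (φ : Coh.structureModule X ⟶ H)
    (hdim : ∀ Z ∈ irreducibleComponents (X : Type u),
      ∀ W ∈ irreducibleComponents ↥(Z ∩ Set.range (PicF2.zeroScheme H φ).subschemeι.base), 2 ≤ topologicalKrullDim ↥W)
    {L : X.Modules} (hL : PicF.IsInvertible L)
    (hres : ∀ y ∉ CohB1.genLocus H φ, topologicalKrullDim (closure ({y} : Set X)) = (1 : ℕ) →
      altT k (fun _ : Fin 1 => L) (ClSub.quotMod (pt y)) = 0) :
    NT k L := by
  classical
  haveI := Groth.L21.RR.isNoetherian_of_proper (X := X) k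
  refine ⟨hL, (numZero_iff k hL).2 fun y hy => ?_⟩
  obtain ⟨ξ, -, hξy, hξmax⟩ := exists_max_in_closed (S := (Set.univ : Set X)) isClosed_univ (Set.mem_univ y)
  by_cases hξ : ξ ∈ CohB1.genLocus H φ
  swap
  · exact hres y (fun h : y ∈ CohB1.genLocus H φ => hξ (hξy.mem_open (CohB1.genLocus H φ).2 h)) hy
  let i := (pt ξ).subschemeι
  let Z := (pt ξ).subscheme
  haveI : IsIntegral Z := isIntegral_pt ξ
  letI : Z.Over (Spec (CommRingCat.of k)) := ⟨i ≫ (X ↘ Spec (CommRingCat.of k))⟩
  haveI : IsProper (Z ↘ Spec (CommRingCat.of k)) :=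
    inferInstanceAs (IsProper (i ≫ (X ↘ Spec (CommRingCat.of k))))
  haveI := Groth.L21.RR.isNoetherian_of_proper (X := Z) k
  have hrange : Set.range i = closure {ξ} := range_pt ξ
  obtain ⟨y₀, hy₀⟩ : y ∈ Set.range i := by rw [hrange]; exact specializes_iff_mem_closure.1 hξy
  subst hy₀
  have hdy : topologicalKrullDim (closure ({y₀} : Set Z)) = (1 : ℕ) := by
    rw [← dim_closure_map i.isClosedEmbedding, hy]
  let HZ := (Scheme.Modules.pullback i).obj H
  have hHZ : CohB1.IsAmple HZ := Groth.L18.Ample.isAmple_pullback_of_isAffineHom i hH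
  let σ := Groth.L18.Ample.pullHom i φ
  have hgen : CohB1.genLocus HZ σ = i ⁻¹ᵁ CohB1.genLocus H φ := Groth.L18.Ample.genLocus_pullHom i hH.1 φ
  have hi : i (genericPoint Z) = ξ := genericPoint_pt ξ
  have hση : genericPoint Z ∈ CohB1.genLocus HZ σ := by
    rw [hgen]; show i (genericPoint Z) ∈ CohB1.genLocus H φ; rw [hi]; exact hξ
  haveI : Mono σ := Groth.L22.Nakai.mono_of_injective (Groth.L18.Ample.isInvertible_structureModule _) σ
    (bijective_stalk_section σ hση).1
  obtain ⟨hD, hDη⟩ := cokernel_facts k (Groth.L18.Ample.isInvertible_structureModule _) hHZ.1 σ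
  haveI : Coh.IsQCoh HZ := (Groth.L18.Ample.isCoh_of_isInvertible hHZ.1).1
  have hsupp : ∀ z, z ∈ CohB1.support (cokernel σ) ↔ z ∉ CohB1.genLocus HZ σ := fun z => by
    rw [← not_iff_not, not_not, Groth.L21.RR.mem_genLocus_iff hHZ.1, notMem_support_cokernel_iff]
    rfl
  have hSc := CohSupport.isClosed_support (cokernel σ) hD.2
  have hηtop : topologicalKrullDim (closure ({genericPoint Z} : Set Z)) = topologicalKrullDim Z := by
    rw [(genericPoint_spec Z).def]
    exact IsHomeomorph.topologicalKrullDim_eq _ (Homeomorph.Set.univ Z).isHomeomorph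
  obtain ⟨D, hZle, -⟩ := exists_nat_dim_le k k (X := Z)
  obtain ⟨d, hd⟩ : ∃ d : ℕ, topologicalKrullDim Z = (d : WithBot ℕ∞) := by
    have hne : (⊥ : WithBot ℕ∞) < topologicalKrullDim Z :=
      (WithBot.bot_lt_coe ((1 : ℕ) : ℕ∞)).trans_le
        (hdy.ge.trans (topologicalKrullDim_subspace_le Z _))
    generalize topologicalKrullDim Z = q at hne hZle
    induction q using WithBot.recBotCoe with
    | bot => exact absurd hne (lt_irrefl _)
    | coe q =>
      induction q using ENat.recTopCoe with
      | top => exact absurd (WithBot.coe_le_coe.1 hZle) (by simp)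
      | coe q => exact ⟨q, rfl⟩
  obtain ⟨r, rfl⟩ : ∃ r, d = r + 1 := ⟨d - 1, by
    have h1 : topologicalKrullDim (closure ({y₀} : Set Z)) ≤ (d : WithBot ℕ∞) :=
      hd ▸ topologicalKrullDim_subspace_le Z _
    rw [hdy] at h1
    have : 1 ≤ d := by exact_mod_cast h1
    omega⟩
  have hmaxdim : ∀ w ∈ CohB1.support (cokernel σ), (∀ w' ∈ CohB1.support (cokernel σ), w' ⤳ w → w' = w) →
      topologicalKrullDim (closure ({w} : Set Z)) = ((r : ℕ) : WithBot ℕ∞) := by
    intro w hw hmax
    obtain ⟨n, hn, hn'⟩ := dim_closure_eq_add_one k hHZ.1 σ (y := genericPoint Z) (z := w) hση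
      (by rw [(genericPoint_spec Z).def]; trivial) ((hsupp w).1 hw)
      (fun w' _ hw' h => hmax w' ((hsupp w').2 hw') h)
    rw [hηtop, hd] at hn'
    have : r + 1 = n + 1 := by exact_mod_cast hn'
    rw [hn, show n = r by omega]
  -- the divisor is not empty
  obtain ⟨w₀, hw₀⟩ : (CohB1.support (cokernel σ)).Nonempty := by
    rw [Set.nonempty_iff_ne_empty]
    intro h0
    have hpos := Groth.L22.Nakai.altT_quotMod_pos k hHZ (pt (genericPoint Z))
      (d := r + 1) (by rw [Groth.L18.support_vanishingIdeal]; exact hηtop.trans hd)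
    rw [altT_integral k hd (fun _ => hHZ.1), show (fun _ : Fin (r + 1) => HZ) = Fin.cons HZ (fun _ : Fin r => HZ) from
      funext fun l => Fin.cases rfl (fun _ => rfl) l, altT_cons_coker k hHZ.1 (fun _ => hHZ.1) σ,
      altT, twEuler_of_isZero k (fun _ => hHZ.1) ((Groth.L00.Stk.isZero_iff _).2 fun z => by
        refine @ModuleCat.isZero_of_subsingleton _ _ _ ?_
        exact not_not.1 fun hz => Set.eq_empty_iff_forall_notMem.1 h0 z hz), map_zero] at hpos
    exact lt_irrefl _ hpos
  obtain ⟨w, hw, -, hwmax⟩ := exists_max_in_closed hSc hw₀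
  have hwd := hmaxdim w hw hwmax
  -- its components have dimension at least two
  have hr : 2 ≤ r := by
    let S : Set X := closure {ξ} ∩ Set.range (PicF2.zeroScheme H φ).subschemeι.base
    have hz : Set.range (PicF2.zeroScheme H φ).subschemeι.base = (CohB1.genLocus H φ : Set X)ᶜ := by
      rw [← Groth.L22.ZeroScheme.support_zeroScheme hH.1 φ]
      exact Scheme.IdealSheafData.range_subschemeι _
    have hwS : i w ∈ S := ⟨hrange ▸ ⟨w, rfl⟩, hz ▸ fun h => (hsupp w).1 hw (hgen ▸ h)⟩
    obtain ⟨C, hC, hwC⟩ : ∃ C ∈ irreducibleComponents ↥S, (⟨i w, hwS⟩ : S) ∈ C :=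
      ⟨_, irreducibleComponent_mem_irreducibleComponents _, mem_irreducibleComponent⟩
    have hξcomp : closure {ξ} ∈ irreducibleComponents (X : Type u) := by
      refine ⟨isIrreducible_singleton.closure, fun T hT hle => ?_⟩
      obtain ⟨g, hg⟩ := QuasiSober.sober hT.closure isClosed_closure
      have hgξ : g ⤳ ξ := specializes_iff_mem_closure.2 (by
        rw [hg.def]; exact subset_closure (hle (subset_closure rfl)))
      obtain rfl := hξmax g trivial hgξ
      rw [hg.def]; exact subset_closure
    have h2 := hdim _ hξcomp C hC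
    have hSclosed : IsClosed S := isClosed_closure.inter (hz ▸ (CohB1.genLocus H φ).2.isClosed_compl)
    have hsub : Subtype.val '' C ⊆ closure {i w} := by
      have hCi : IsIrreducible (Subtype.val '' C) := hC.1.image _ continuous_subtype_val.continuousOn
      have hCc : IsClosed (Subtype.val '' C) :=
        hSclosed.isClosedMap_subtype_val _ (isClosed_of_mem_irreducibleComponents C hC)
      obtain ⟨g, hg⟩ := QuasiSober.sober hCi hCc
      have hgS : g ∈ S := by
        have : g ∈ Subtype.val '' C := hg.def ▸ subset_closure rfl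
        obtain ⟨a, -, rfl⟩ := this
        exact a.2
      obtain ⟨g', hg'⟩ : g ∈ Set.range i := hrange ▸ hgS.1
      subst hg'
      have hgw : i g' ⤳ i w := hg.specializes ⟨_, hwC, rfl⟩
      have hg'' : i g' ∈ (CohB1.genLocus H φ : Set X)ᶜ := hz ▸ hgS.2
      have : g' = w := hwmax g' ((hsupp g').2 fun h => hg'' (by rw [hgen] at h; exact h))
        (i.isClosedEmbedding.isInducing.specializes_iff.1 hgw)
      rw [← this, hg.def]
    have h3 : topologicalKrullDim ↥C ≤ topologicalKrullDim (closure ({i w} : Set X)) :=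
      ((IsHomeomorph.topologicalKrullDim_eq _ (Topology.IsEmbedding.subtypeVal.homeomorphImage C).isHomeomorph).trans_le
        (topologicalKrullDim_set_mono hsub))
    rw [dim_closure_map i.isClosedEmbedding, hwd] at h3
    have : (2 : ℕ) ≤ r := by exact_mod_cast h2.trans h3
    exact this
  obtain ⟨t, rfl⟩ : ∃ t, r = t + 2 := ⟨r - 2, by omega⟩
  have hd1 : topologicalKrullDim (CohB1.support (cokernel σ)) ≤ ((t + 2 : ℕ) : WithBot ℕ∞) :=
    dim_le_of_generic_notMem hSc hDη (hd.le.trans (by rfl))
  let LZ := (Scheme.Modules.pullback i).obj L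
  have hLZ : PicF.IsInvertible LZ := Groth.L18.Ample.isInvertible_pullback i hL
  -- intersection numbers with a slot in the divisor vanish
  have key : ∀ R : Fin (t + 1) → Z.Modules, (∀ l, PicF.IsInvertible (R l)) →
      altT k (Fin.cons HZ (Fin.cons LZ R)) (Coh.structureModule Z) = 0 := by
    intro R hR
    have hinv : ∀ l, PicF.IsInvertible ((Fin.cons LZ R : Fin (t + 2) → Z.Modules) l) :=
      Fin.cases (by simpa using hLZ) fun l => by simpa using hR l
    rw [altT_cons_coker k hHZ.1 hinv σ, altT_eq_sum k hinv hSc hd1 (finite_top hSc hd1).toFinset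
      (fun z => Set.Finite.mem_toFinset _) (fun z => ClSub.quotMod (pt z)) (fun z _ => pt_facts z) hD subset_rfl]
    refine Finset.sum_eq_zero fun z hz => ?_
    obtain ⟨hzS, hzd⟩ := (Set.Finite.mem_toFinset _).1 hz
    haveI := isIntegral_pt z
    let e := (pt z).subschemeι
    letI : (pt z).subscheme.Over (Spec (CommRingCat.of k)) := ⟨e ≫ (Z ↘ Spec (CommRingCat.of k))⟩
    haveI : IsProper ((pt z).subscheme ↘ Spec (CommRingCat.of k)) :=
      inferInstanceAs (IsProper (e ≫ (Z ↘ Spec (CommRingCat.of k))))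
    haveI := Groth.L21.RR.isNoetherian_of_proper (X := (pt z).subscheme) k
    have hdz : topologicalKrullDim (pt z).subscheme = ((t + 2 : ℕ) : WithBot ℕ∞) := by
      rw [← dim_closure_image e, genericPoint_pt, hzd]
    have h1 := altT_push_eq k e rfl hdz hinv
    rw [genericPoint_pt] at h1
    have hnt : NT k ((Scheme.Modules.pullback e).obj LZ) := by
      have h0 : NT k ((Scheme.Modules.pullback (e ≫ i)).obj L) := by
        refine NT_pullback_pt k hL (S := (CohB1.genLocus H φ : Set X)ᶜ) (fun y hy => hres y hy) (e ≫ i)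
          (Category.assoc _ _ _) ?_
        rintro _ ⟨a, rfl⟩ ha
        have hae : e a ∈ closure ({z} : Set Z) := range_pt z ▸ ⟨a, rfl⟩
        exact (hsupp (e a)).1 (closure_minimal (Set.singleton_subset_iff.2 hzS) hSc hae)
          (hgen ▸ (show i (e a) ∈ CohB1.genLocus H φ by rw [← Scheme.Hom.comp_apply]; exact ha))
      have hi' := Groth.L18.Ample.isInvertible_pullback e hLZ
      refine ⟨hi', (numZero_iff k hi').2 fun c hc => ?_⟩
      exact (altT_congr k (L := fun _ : Fin 1 => (Scheme.Modules.pullback e).obj LZ)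
        (fun _ => ⟨(Scheme.Modules.pullbackComp e i).app L⟩) _).trans (h0.deg hc)
    rw [← h1, show (fun l => (Scheme.Modules.pullback e).obj ((Fin.cons LZ R : Fin (t + 2) → Z.Modules) l)) =
        Fin.cons ((Scheme.Modules.pullback e).obj LZ) (fun l => (Scheme.Modules.pullback e).obj (R l)) from
      funext fun l => Fin.cases rfl (fun _ => rfl) l,
      altT_cons_NT k hnt (fun l => Groth.L18.Ample.isInvertible_pullback e (hR l)) CohClosedPush.isCoh_structure,
      mul_zero]
  have hconst : ∀ n : ℕ, (Fin.cons HZ (fun _ : Fin n => HZ) : Fin (n + 1) → Z.Modules) = fun _ => HZ :=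
    fun n => funext fun l => Fin.cases rfl (fun _ => rfl) l
  have horth : altT k (Fin.cons LZ (fun _ : Fin (t + 1 + 1) => HZ)) (Coh.structureModule Z) = 0 := by
    rw [← hconst, altT_swap]
    exact key _ fun _ => hHZ.1
  have hsq : altT k (Fin.cons LZ (Fin.cons LZ (fun _ : Fin (t + 1) => HZ))) (Coh.structureModule Z) = 0 := by
    rw [← hconst, altT_swap_inner, altT_swap]
    exact key _ (Fin.cases (by simpa using hLZ) fun _ => by simpa using hHZ.1)
  have h3 := orth (t + 1) k Z (by rw [hd]) HZ LZ hHZ hLZ horth hsq.ge y₀ hdy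
  haveI := isIntegral_pt y₀
  let e := (pt y₀).subschemeι
  letI : (pt y₀).subscheme.Over (Spec (CommRingCat.of k)) := ⟨e ≫ (Z ↘ Spec (CommRingCat.of k))⟩
  haveI : IsProper ((pt y₀).subscheme ↘ Spec (CommRingCat.of k)) :=
    inferInstanceAs (IsProper (e ≫ (Z ↘ Spec (CommRingCat.of k))))
  have hdc : topologicalKrullDim (pt y₀).subscheme = (1 : ℕ) := by
    rw [← dim_closure_image e, genericPoint_pt, hdy]
  have h4 := altT_push_eq k e rfl hdc (L := fun _ : Fin 1 => LZ) fun _ => hLZ
  have h5 := altT_push_eq k (e ≫ i) (Category.assoc _ _ _) hdc (L := fun _ : Fin 1 => L) fun _ => hL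
  rw [genericPoint_pt, h3] at h4
  rw [Scheme.Hom.comp_apply, genericPoint_pt] at h5
  rw [← h5, ← h4]
  exact altT_congr k (fun _ => ⟨((Scheme.Modules.pullbackComp e i).app L).symm⟩) _

end Groth.L11.NumOrth
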