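import Groth.Agent.L11.NumOrth.Hyperplane
import Groth.Agent.L11.NumOrth.NumFamily
import Groth.Agent.L16.Devissage
import Groth.Agent.S12112
import Groth.Agent.L16.Rees.RelVanish

/-!
# Uniform regularity and bounded sections for numerically trivial twists
-/

set_option autoImplicit false
set_option backward.isDefEq.respectTransparency false
set_option linter.style.haveILetI false
set_option linter.unusedSectionVars false

universe u

open CategoryTheory CategoryTheory.Limits AlgebraicGeometry TopologicalSpace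

noncomputable section

namespace Groth.L11.NumOrth

open Groth.L16 Groth.L22.Nef Groth.L22.Inter Groth.L03.Euler Groth.L22.Big
open Groth.L00.Tensor (tensorMap tensorIso tensorAssoc tensorComm tensorUnitRight tensorUnitLeft)

variable (k : Type u) [Field k] [IsAlgClosed k] {n : ℕ} {X : Scheme.{u}} [X.Over (Spec (CommRingCat.of k))]
  [IsProper (X ↘ Spec (CommRingCat.of k))] (i : X ⟶ CohB1.ProjSpace n k) [IsClosedImmersion i]

/-- Uniform regularity below a dimension. -/
def Reg (d : ℕ) : Prop :=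
  ∀ F : X.Modules, Coh.IsCoh F → topologicalKrullDim (CohB1.support F) + 1 ≤ (d : WithBot ℕ∞) →
    ∃ m : ℤ, ∀ L, NT k L → Pic13.IsMRegular k i (CohB1.tensorMod F L) m

/-- Bounded sections below a dimension. -/
def Bdd (d : ℕ) : Prop :=
  ∀ F : X.Modules, Coh.IsCoh F → topologicalKrullDim (CohB1.support F) + 1 ≤ (d : WithBot ℕ∞) →
    ∀ j : ℤ, ∃ B : ℕ, ∀ L, NT k L → h0 k (Pic13.twistOn k i (CohB1.tensorMod F L) j) ≤ B

/-- Invariance of the Euler characteristic below a dimension. -/
def Chi (d : ℕ) : Prop :=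
  ∀ F : X.Modules, Coh.IsCoh F → topologicalKrullDim (CohB1.support F) + 1 ≤ (d : WithBot ℕ∞) →
    ∀ L, NT k L → Curv2.euler k X (CohB1.tensorMod F L) = Curv2.euler k X F

theorem eq_empty_of_dim {T : Set X} (h : topologicalKrullDim T + 1 ≤ ((0 : ℕ) : WithBot ℕ∞)) : T = ∅ := by
  by_contra hne
  have h2 := Groth.L03.Euler.zero_le_topologicalKrullDim (Set.nonempty_iff_ne_empty.2 hne)
  have h3 : ((1 : ℕ) : WithBot ℕ∞) ≤ ((0 : ℕ) : WithBot ℕ∞) := le_trans (by simpa using add_le_add_left h2 1) h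
  norm_num at h3

theorem dim_succ_iff {T : Set X} {d : ℕ} :
    topologicalKrullDim T + 1 ≤ ((d + 1 : ℕ) : WithBot ℕ∞) ↔ topologicalKrullDim T ≤ (d : WithBot ℕ∞) := by
  generalize topologicalKrullDim T = q
  induction q using WithBot.recBotCoe with
  | bot => simp
  | coe q =>
    change ((q + 1 : ℕ∞) : WithBot ℕ∞) ≤ (((d + 1 : ℕ) : ℕ∞) : WithBot ℕ∞) ↔ _ ≤ (((d : ℕ) : ℕ∞) : WithBot ℕ∞)
    rw [WithBot.coe_le_coe, WithBot.coe_le_coe, Nat.cast_add, Nat.cast_one, ENat.add_le_add_iff_right (by simp)]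

variable {F G : X.Modules} {f : Pic13.twistOn k i F (-1) ⟶ F} {g : F ⟶ G} {h : f ≫ g = 0}

/-- The hyperplane sequence after tensoring. -/
theorem exists_seq_tensor (hS : (ShortComplex.mk f g h).ShortExact) {L : X.Modules} (hL : PicF.IsInvertible L) :
    ∃ (f' : Pic13.twistOn k i (CohB1.tensorMod F L) (-1) ⟶ CohB1.tensorMod F L)
      (g' : CohB1.tensorMod F L ⟶ CohB1.tensorMod G L) (h' : f' ≫ g' = 0),
      (ShortComplex.mk f' g' h').ShortExact := by
  have hT := shortExact_tensor hL hS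
  refine ⟨(twistTensor i F L (-1)).hom ≫ (Groth.L00.Tensor.tensorRightF L).map f,
    (Groth.L00.Tensor.tensorRightF L).map g,
    by rw [Category.assoc, ← Functor.map_comp, h, Functor.map_zero, comp_zero], ?_⟩
  refine ShortComplex.shortExact_of_iso ?_ hT
  exact ShortComplex.isoMk (twistTensor i F L (-1)).symm (Iso.refl _) (Iso.refl _)
    ((Iso.inv_hom_id_assoc _ _).trans (Category.comp_id _).symm)
    ((Category.id_comp _).trans (Category.comp_id _).symm)

/-- The hyperplane sequence after twisting. -/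
theorem exists_seq_twist (hS : (ShortComplex.mk f g h).ShortExact) (j : ℤ) :
    ∃ (f' : Pic13.twistOn k i F (j - 1) ⟶ Pic13.twistOn k i F j)
      (g' : Pic13.twistOn k i F j ⟶ Pic13.twistOn k i G j) (h' : f' ≫ g' = 0),
      (ShortComplex.mk f' g' h').ShortExact := by
  have hT := shortExact_tensor (isInvertible_OX i j) hS
  obtain ⟨e⟩ := nonempty_twist_twist i F (show -1 + j = j - 1 by omega)
  refine ⟨e.inv ≫ (Groth.L00.Tensor.tensorRightF (OX i j)).map f,
    (Groth.L00.Tensor.tensorRightF (OX i j)).map g,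
    by rw [Category.assoc, ← Functor.map_comp, h, Functor.map_zero, comp_zero], ?_⟩
  refine ShortComplex.shortExact_of_iso ?_ hT
  exact ShortComplex.isoMk e (Iso.refl _) (Iso.refl _)
    ((Iso.hom_inv_id_assoc _ _).trans (Category.comp_id _).symm)
    ((Category.id_comp _).trans (Category.comp_id _).symm)

/-- Twisting up by one. -/
theorem h0_step (hF : Coh.IsCoh F) (hG : Coh.IsCoh G) (hS : (ShortComplex.mk f g h).ShortExact)
    {L : X.Modules} (hL : PicF.IsInvertible L) (j : ℤ) :
    h0 k (Pic13.twistOn k i (CohB1.tensorMod F L) (j - 1)) ≤ h0 k (Pic13.twistOn k i (CohB1.tensorMod F L) j) ∧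
    h0 k (Pic13.twistOn k i (CohB1.tensorMod F L) j) ≤
      h0 k (Pic13.twistOn k i (CohB1.tensorMod F L) (j - 1)) + h0 k (Pic13.twistOn k i (CohB1.tensorMod G L) j) ∧
    Curv2.euler k X (Pic13.twistOn k i (CohB1.tensorMod F L) j) =
      Curv2.euler k X (Pic13.twistOn k i (CohB1.tensorMod F L) (j - 1)) +
        Curv2.euler k X (Pic13.twistOn k i (CohB1.tensorMod G L) j) := by
  haveI := Groth.L21.RR.isNoetherian_of_proper (X := X) k
  obtain ⟨f₁, g₁, h₁, hS₁⟩ := exists_seq_tensor k i hS hL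
  obtain ⟨f₂, g₂, h₂, hS₂⟩ := exists_seq_twist k i hS₁ j
  have hFL := Groth.L03.Euler.isCoh_tensor hL hF
  have hGL := Groth.L03.Euler.isCoh_tensor hL hG
  have a1 := Groth.L22.Reg.isCoh_twistOn i hFL (j - 1)
  have a2 := Groth.L22.Reg.isCoh_twistOn i hFL j
  have a3 := Groth.L22.Reg.isCoh_twistOn i hGL j
  refine ⟨?_, ?_, ?_⟩
  · exact h0_le_of_shortExact (S := ShortComplex.mk f₂ g₂ h₂) k hS₂ a2
  · exact h0_le_add (S := ShortComplex.mk f₂ g₂ h₂) k hS₂ a1 a2 a3
  · exact euler_add (S := ShortComplex.mk f₂ g₂ h₂) (k := k) hS₂ a1 a2 a3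

theorem h0_mono_twist (hF : Coh.IsCoh F) (hG : Coh.IsCoh G) (hS : (ShortComplex.mk f g h).ShortExact)
    {L : X.Modules} (hL : PicF.IsInvertible L) (j : ℤ) : ∀ t : ℕ,
    h0 k (Pic13.twistOn k i (CohB1.tensorMod F L) (j - t)) ≤ h0 k (Pic13.twistOn k i (CohB1.tensorMod F L) j) := by
  intro t
  induction t with
  | zero => simp
  | succ t ih =>
    refine le_trans ?_ ih
    rw [show j - ((t + 1 : ℕ) : ℤ) = (j - t) - 1 by push_cast; ring]
    exact (h0_step k i hF hG hS hL (j - t)).1

/-- Bounded sections at one twist propagate to every twist. -/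
theorem bdd_of_one (hF : Coh.IsCoh F) (hG : Coh.IsCoh G) (hS : (ShortComplex.mk f g h).ShortExact)
    (hGB : ∀ j : ℤ, ∃ B : ℕ, ∀ L, NT k L → h0 k (Pic13.twistOn k i (CohB1.tensorMod G L) j) ≤ B)
    {j₀ : ℤ} (h₀ : ∃ B : ℕ, ∀ L, NT k L → h0 k (Pic13.twistOn k i (CohB1.tensorMod F L) j₀) ≤ B) (j : ℤ) :
    ∃ B : ℕ, ∀ L, NT k L → h0 k (Pic13.twistOn k i (CohB1.tensorMod F L) j) ≤ B := by
  have up : ∀ t : ℕ, ∃ B : ℕ, ∀ L, NT k L → h0 k (Pic13.twistOn k i (CohB1.tensorMod F L) (j₀ + t)) ≤ B := by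
    intro t
    induction t with
    | zero => simpa using h₀
    | succ t ih =>
      obtain ⟨B, hB⟩ := ih
      obtain ⟨C, hC⟩ := hGB (j₀ + ((t + 1 : ℕ) : ℤ))
      refine ⟨B + C, fun L hL => ?_⟩
      have h1 := (h0_step k i hF hG hS hL.1 (j₀ + ((t + 1 : ℕ) : ℤ))).2.1
      rw [show j₀ + ((t + 1 : ℕ) : ℤ) - 1 = j₀ + t by push_cast; ring] at h1
      exact h1.trans (Nat.add_le_add (hB L hL) (hC L hL))
  rcases le_total j₀ j with hj | hj
  · obtain ⟨t, rfl⟩ : ∃ t : ℕ, j = j₀ + t := ⟨(j - j₀).toNat, by omega⟩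
    exact up t
  · obtain ⟨B, hB⟩ := h₀
    refine ⟨B, fun L hL => le_trans ?_ (hB L hL)⟩
    have := h0_mono_twist k i hF hG hS hL.1 j₀ (j₀ - j).toNat
    rwa [show j₀ - ((j₀ - j).toNat : ℤ) = j by omega] at this

variable (hi : i ≫ CohB1.ProjSpace.toSpec n k = X ↘ Spec (CommRingCat.of k))

/-- Bounded sections one dimension up. -/
theorem bdd_succ {d : ℕ} (ih : Bdd k i d) : Bdd k i (d + 1) := by
  haveI := Groth.L21.RR.isNoetherian_of_proper (X := X) k
  intro M hM hd
  refine Devissage.devissage_ideals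
    (fun M : X.Modules => topologicalKrullDim (CohB1.support M) + 1 ≤ ((d + 1 : ℕ) : WithBot ℕ∞) →
      ∀ j : ℤ, ∃ B : ℕ, ∀ L, NT k L → h0 k (Pic13.twistOn k i (CohB1.tensorMod M L) j) ≤ B)
    ?_ ?_ ?_ ?_ hM hd
  · rintro A B ⟨e⟩ hA hB j
    have hsub : CohB1.support A ⊆ CohB1.support B := Groth.L21.Mod.support_mono e.hom
    obtain ⟨C, hC⟩ := hA ((add_le_add_left (topologicalKrullDim_set_mono hsub) 1).trans hB) j
    exact ⟨C, fun L hL => (h0_iso k (tensorIso (tensorIso e (Iso.refl L)) (Iso.refl _))).symm.trans_le (hC L hL)⟩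
  · intro A hA _ j
    refine ⟨0, fun L hL => ?_⟩
    have hz : IsZero (Pic13.twistOn k i (CohB1.tensorMod A L) j) :=
      (Groth.L00.Tensor.tensorRightF (OX i j)).map_isZero ((Groth.L00.Tensor.tensorRightF L).map_isZero hA)
    haveI := subsingleton_HH_of_isZero hz 0
    rw [h0_def, Module.finrank_zero_of_subsingleton]
  · intro S hS c₁ c₂ c₃ h₁ h₃ h₂ j
    obtain ⟨s1, s3⟩ := Devissage.support_union hS
    obtain ⟨B₁, hB₁⟩ := h₁ ((add_le_add_left (topologicalKrullDim_set_mono s1) 1).trans h₂) j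
    obtain ⟨B₃, hB₃⟩ := h₃ ((add_le_add_left (topologicalKrullDim_set_mono s3) 1).trans h₂) j
    refine ⟨B₁ + B₃, fun L hL => le_trans ?_ (Nat.add_le_add (hB₁ L hL) (hB₃ L hL))⟩
    exact h0_le_add k (shortExact_tensor (isInvertible_OX i j) (shortExact_tensor hL.1 hS))
      (Groth.L22.Reg.isCoh_twistOn i (Groth.L03.Euler.isCoh_tensor hL.1 c₁) j)
      (Groth.L22.Reg.isCoh_twistOn i (Groth.L03.Euler.isCoh_tensor hL.1 c₂) j)
      (Groth.L22.Reg.isCoh_twistOn i (Groth.L03.Euler.isCoh_tensor hL.1 c₃) j)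
  · intro Z z hz hZ I ι hι hI hId j
    haveI := hz; haveI := hZ; haveI := hι
    haveI : IsLocallyNoetherian Z := LocallyOfFiniteType.isLocallyNoetherian z
    letI : Z.Over (Spec (CommRingCat.of k)) := ⟨z ≫ (X ↘ Spec (CommRingCat.of k))⟩
    haveI : IsProper (Z ↘ Spec (CommRingCat.of k)) :=
      inferInstanceAs (IsProper (z ≫ (X ↘ Spec (CommRingCat.of k))))
    haveI := Groth.L21.RR.isNoetherian_of_proper (X := Z) k
    haveI : (Coh.push z).IsRightAdjoint := (Scheme.Modules.pullbackPushforwardAdjunction z).isRightAdjoint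
    let O := (Coh.push z).obj (Coh.structureModule Z)
    have hO : Coh.IsCoh O := CohClosedPush.isCoh_push z CohClosedPush.isCoh_structure
    let a : (Coh.push z).obj I ⟶ O := (Coh.push z).map ι
    haveI : Mono a := inferInstance
    by_cases hη : z (genericPoint Z) ∈ CohB1.support ((Coh.push z).obj I)
    swap
    · have h0' := isZero_of_mono_push z a hη
      refine ⟨0, fun L hL => ?_⟩
      have hzz : IsZero (Pic13.twistOn k i (CohB1.tensorMod ((Coh.push z).obj I) L) j) :=
        (Groth.L00.Tensor.tensorRightF (OX i j)).map_isZero ((Groth.L00.Tensor.tensorRightF L).map_isZero h0')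
      haveI := subsingleton_HH_of_isZero hzz 0
      rw [h0_def, Module.finrank_zero_of_subsingleton]
    have hsO : topologicalKrullDim (CohB1.support O) ≤ (d : WithBot ℕ∞) := by
      refine (topologicalKrullDim_set_mono ((CohClosedPush.support_push_subset z _).trans
        ((range_eq_closure z).le.trans ?_))).trans (dim_succ_iff.1 hId)
      have hcl : IsClosed (CohB1.support ((Coh.push z).obj I)) := by
        have hIc : Coh.IsCoh ((Coh.push z).obj I) := by
          haveI : Coh.IsQCoh ((Coh.push z).obj I) := Groth.L16.QcqsPush.isQCoh_push I z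
          exact Groth.L16.Rees.RelVanish.isCoh_of_mono a hO
        exact CohSupport.isClosed_support _ hIc.2
      exact closure_minimal (Set.singleton_subset_iff.2 hη) hcl
    obtain ⟨G, f, g, hfg, hS, hG, hGd⟩ := exists_hyperplane i hO hsO
    obtain ⟨B, hB⟩ := bdd_of_one k i hO hG hS (ih G hG hGd) (j₀ := -1) ⟨h0 k (Coh.structureModule Z), fun L hL => by
      let E := CohB1.tensorMod L (OX i (-1))
      have hE : PicF.IsInvertible E := Groth.L18.GenLoc.isInvertible_tensor hL.1 (isInvertible_OX i _)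
      haveI : X.IsSeparated := ⟨by rw [← terminal.comp_from (X ↘ Spec (CommRingCat.of k))]; infer_instance⟩
      have e1 : h0 k (Pic13.twistOn k i (CohB1.tensorMod O L) (-1)) =
          h0 k ((Scheme.Modules.pullback z).obj E) := by
        rw [h0_iso k (show Pic13.twistOn k i (CohB1.tensorMod O L) (-1) ≅ CohB1.tensorMod O E from
          tensorAssoc O L _), h0_def, h0_def, finrank_push k z rfl hE (Coh.structureModule Z)
          CohClosedPush.isCoh_structure.1 0]
        exact finrank_HH_of_iso (tensorUnitLeft _) 0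
      rw [e1]
      refine h0_le_of_deg_nonpos (Groth.L18.Ample.isInvertible_pullback z hE) fun y hy => ?_
      rw [deg_pullback_closed k z rfl hE y hy]
      have hy' : topologicalKrullDim (closure ({z y} : Set X)) = (1 : ℕ) := by
        rw [dim_closure_map z.isClosedEmbedding, hy]
      rw [Groth.L02.Num.deg_tensor hL.1 (isInvertible_OX i _) _ hy', hL.deg hy', zero_add]
      obtain ⟨e⟩ := nonempty_OX_add i (show 1 + -1 = (0 : ℤ) by norm_num)
      obtain ⟨e0⟩ := nonempty_OX_zero i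
      have h1 := Groth.L02.Num.deg_tensor (k := k) (isInvertible_OX i 1) (isInvertible_OX i (-1)) _ hy'
      rw [altT_congr k (fun _ => ⟨e ≪≫ e0⟩), Groth.L02.Num.deg_unit] at h1
      have h2 := (IsNef.of_isAmple (k := k) (isAmple_OX_one i)).2 _ hy'
      linarith⟩ j
    refine ⟨B, fun L hL => le_trans ?_ (hB L hL)⟩
    have hd' : Coh.IsCoh (Pic13.twistOn k i (CohB1.tensorMod O L) j) :=
      Groth.L22.Reg.isCoh_twistOn i (Groth.L03.Euler.isCoh_tensor hL.1 hO) j
    let b := (Groth.L00.Tensor.tensorRightF (OX i j)).map ((Groth.L00.Tensor.tensorRightF L).map a)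
    have hS' := shortExact_tensor (isInvertible_OX i j) (shortExact_tensor hL.1
      (show (ShortComplex.mk a (cokernel.π a) (cokernel.condition a)).ShortExact from
        { exact := ShortComplex.exact_cokernel a }))
    exact h0_le_of_shortExact k hS' hd'

end Groth.L11.NumOrth
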